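import Groth.Agent.Vancyc.H691.GenFib
import Groth.Agent.Vancyc.H326.ChiLam
import Groth.Prelude.Def_Omega2

/-!
# S4009 from Gauss–Bonnet and the coherent identity
-/

set_option autoImplicit false
universe u

open CategoryTheory CategoryTheory.Limits AlgebraicGeometry Opposite TopologicalSpace

namespace Groth.Agent.Vancyc.H691.Reduce

open Groth.Agent.Vancyc.H326.ChiLam

/-- `Σ_p (-1)^p χ(Y, Ω^p)` for a scheme over a field. -/
noncomputable def chiCoh (k : Type u) [Field k] {Y : Scheme.{u}} (a : Y ⟶ Spec (CommRingCat.of k))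
    (m : ℕ) : ℤ :=
  letI : Y.Over (Spec (CommRingCat.of k)) := ⟨a⟩
  c k m (Omega.sheaf a)

/-- The Gauss–Bonnet formula for all proper smooth schemes over algebraically closed fields. -/
def GB : Prop := ∀ (k : Type u) [Field k] [IsAlgClosed k] (Y : Scheme.{u})
  (a : Y ⟶ Spec (CommRingCat.of k)) [IsProper a] (m : ℕ) [SmoothOfRelativeDimension m a]
  (ℓ : ℕ), ℓ.Prime → (ℓ : k) ≠ 0 → VanCyc.euler ℓ Y (2 * m) = chiCoh k a m

/-- The sum of the Milnor numbers only involves the closed points outside `U`. -/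
theorem sum_milnor {k : Type u} [Field k] {X S : Scheme.{u}} (p : X ⟶ Spec (CommRingCat.of k))
    [LocallyOfFiniteType p] (f : X ⟶ S) (U : X.Opens) (F F₀ : Finset ↥X)
    (hF : ∀ x : ↥X, x ∉ F → x ∈ U) (hF₀ : ∀ x : ↥X, x ∈ F₀ ↔ x ∉ U)
    (hM : ∀ x : ↥X, x ∈ U → IsClosed ({x} : Set ↥X) → VanCyc.milnor p f x = 0) :
    ∑ x ∈ F, (VanCyc.milnor p f x : ℤ) = ∑ x ∈ F₀, (VanCyc.milnor p f x : ℤ) := by
  symm
  apply Finset.sum_subset
  · intro x hx
    by_contra h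
    exact (hF₀ x).1 hx (hF x h)
  · intro x _ hx
    have hxU : x ∈ U := by
      by_contra h
      exact hx ((hF₀ x).2 h)
    by_cases hc : IsClosed ({x} : Set ↥X)
    · rw [hM x hxU hc]
      rfl
    · rw [GenFib.milnor_eq_zero_of_not_isClosed p f x hc]
      rfl

theorem exists_finset {X : Scheme.{u}} (U : X.Opens) (F : Finset ↥X)
    (hF : ∀ x : ↥X, x ∉ F → x ∈ U) : ∃ F₀ : Finset ↥X, ∀ x : ↥X, x ∈ F₀ ↔ x ∉ U := by
  classical
  refine ⟨F.filter (fun x => x ∉ U), fun x => ?_⟩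
  rw [Finset.mem_filter]
  exact ⟨fun h => h.2, fun h => ⟨by_contra fun h' => h (hF x h'), h⟩⟩

theorem natCast_ne_zero {k : Type u} [Field k] {Ω : Type u} [Field Ω] {ℓ : ℕ} (h : (ℓ : k) ≠ 0)
    (g : Spec (CommRingCat.of Ω) ⟶ Spec (CommRingCat.of k)) : (ℓ : Ω) ≠ 0 := by
  have h1 : (Spec.preimage g).hom (ℓ : k) = (ℓ : Ω) := map_natCast (Spec.preimage g).hom ℓ
  rw [← h1]
  exact (map_ne_zero_iff _ (Spec.preimage g).hom.injective).2 h

/-- The final step of S4009. -/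
theorem main (hGB : GB.{u}) (k : Type u) [Field k] [IsAlgClosed k] (ℓ : ℕ) (hℓ : ℓ.Prime)
    (hℓk : (ℓ : k) ≠ 0) {S X : Scheme.{u}} (pS : S ⟶ Spec (CommRingCat.of k))
    (pX : X ⟶ Spec (CommRingCat.of k))
    [IsProper pS] [SmoothOfRelativeDimension 1 pS] [IrreducibleSpace ↥S]
    (n : ℕ) [IsProper pX] [SmoothOfRelativeDimension (n + 1) pX]
    (f : X ⟶ S) (hf : f ≫ pS = pX) (F : Finset ↥X) (U : X.Opens) (hU : ∀ x : ↥X, x ∉ F → x ∈ U)
    (hUf : Smooth (U.ι ≫ f)) {Ω : Type u} [Field Ω] [IsAlgClosed Ω] (η : Spec (CommRingCat.of Ω) ⟶ S)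
    (hη : η.base (IsLocalRing.closedPoint Ω) = genericPoint ↥S)
    (hM : ∀ x : ↥X, x ∈ U → IsClosed ({x} : Set ↥X) → VanCyc.milnor pX f x = 0)
    (hA : ∀ F₀ : Finset ↥X, (∀ x : ↥X, x ∈ F₀ ↔ x ∉ U) →
      chiCoh k pX (n + 1) = chiCoh k pS 1 * chiCoh Ω (pullback.snd f η) n -
        (-1) ^ n * ∑ x ∈ F₀, (VanCyc.milnor pX f x : ℤ)) :
    VanCyc.euler ℓ X (2 * (n + 1)) =
      VanCyc.euler ℓ S 2 * VanCyc.euler ℓ (pullback f η) (2 * n) -
        (-1) ^ n * ∑ x ∈ F, (VanCyc.milnor pX f x : ℤ) := by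
  obtain ⟨F₀, hF₀⟩ := exists_finset U F hU
  have hfin : {x : ↥X | x ∉ U}.Finite := by
    have : {x : ↥X | x ∉ U} = (F₀ : Set ↥X) := by
      ext x
      exact (hF₀ x).symm
    rw [this]
    exact F₀.finite_toSet
  have h1 : IsProper (pullback.snd f η) := GenFib.proper_snd hf η
  have h2 : SmoothOfRelativeDimension n (pullback.snd f η) := GenFib.smooth_snd hf hfin hη n hUf
  have e1 := hGB k X pX (n + 1) ℓ hℓ hℓk
  have e2 := hGB k S pS 1 ℓ hℓ hℓk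
  have e3 := hGB Ω _ (pullback.snd f η) n ℓ hℓ (natCast_ne_zero hℓk (η ≫ pS))
  rw [sum_milnor pX f U F F₀ hU hF₀ hM, e1, e3, hA F₀ hF₀, ← e2]

end Groth.Agent.Vancyc.H691.Reduce
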