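import Groth.Agent.Vancyc.H120.Rees

/-!
# The augmentation ideal of the extended Rees algebra modulo the parameter

An element of the extended Rees algebra whose coefficient of degree `0` is in `I` is in the ideal generated by the
parameter and the `a T⁻¹`, `a ∈ I`.
-/

set_option autoImplicit false
universe u v

open LaurentPolynomial

namespace Groth.Agent.Vancyc.H691.ReesZero

open Groth.Agent.Vancyc.H120.Rees

noncomputable section

variable {B : Type u} [CommRing B] (I : Ideal B)

/-- The ideal generated by the parameter and the `a T⁻¹`. -/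
def aug : Ideal (rees I) :=
  Ideal.span ({t I} ∪ {y | ∃ a ∈ I, t I * y = algebraMap B (rees I) a})

theorem t_mem_aug : t I ∈ aug I := Ideal.subset_span (Or.inl rfl)

theorem u_mem_aug (a : B) (ha : a ∈ I) : u I a ha ∈ aug I :=
  Ideal.subset_span (Or.inr ⟨a, ha, t_mul_u I a ha⟩)

theorem hom_mem_aug (k : ℕ) (a : B) (ha : a ∈ I ^ (k + 1)) : hom I (k + 1) a ha ∈ aug I := by
  have key : ∀ a ∈ I * I ^ k, ∃ h : a ∈ I ^ (k + 1), hom I (k + 1) a h ∈ aug I := by
    intro a ha
    refine Submodule.mul_induction_on ha ?_ ?_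
    · intro b hb c hc
      have h : b * c ∈ I ^ (k + 1) := by
        rw [pow_succ']
        exact Ideal.mul_mem_mul hb hc
      refine ⟨h, ?_⟩
      have : hom I (k + 1) (b * c) h = u I b hb * hom I k c hc := by
        apply Subtype.ext
        change C (b * c) * T (-((k + 1 : ℕ) : ℤ)) = (C b * T (-1)) * (C c * T (-(k : ℤ)))
        rw [mul_mul_mul_comm, ← T_add, map_mul]
        congr 2
        push_cast
        ring
      rw [this]
      exact Ideal.mul_mem_right _ _ (u_mem_aug I b hb)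
    · rintro x y ⟨hx, hx'⟩ ⟨hy, hy'⟩
      refine ⟨add_mem hx hy, ?_⟩
      have : hom I (k + 1) (x + y) (add_mem hx hy) = hom I (k + 1) x hx + hom I (k + 1) y hy := by
        apply Subtype.ext
        change C (x + y) * T (-((k + 1 : ℕ) : ℤ)) = C x * T (-((k + 1 : ℕ) : ℤ)) +
          C y * T (-((k + 1 : ℕ) : ℤ))
        rw [map_add, add_mul]
      rw [this]
      exact add_mem hx' hy'
  have ha' := ha
  rw [pow_succ'] at ha'
  obtain ⟨_, h⟩ := key a ha'
  exact h

theorem mem_aug_of_homogeneous (n : ℤ) (a : B) (h : (C a * T n : B[T;T⁻¹]) ∈ rees I)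
    (h0 : n = 0 → a ∈ I) : (⟨C a * T n, h⟩ : rees I) ∈ aug I := by
  rcases lt_trichotomy n 0 with hn | hn | hn
  · obtain ⟨k, rfl⟩ : ∃ k : ℕ, n = -((k + 1 : ℕ) : ℤ) := ⟨(-n).toNat - 1, by omega⟩
    have ha : a ∈ I ^ (k + 1) := by
      have := (C_mul_T_mem I).1 h
      rwa [ex_neg_natCast] at this
    exact hom_mem_aug I k a ha
  · subst hn
    have : (⟨C a * T 0, h⟩ : rees I) = t I * u I a (h0 rfl) := by
      rw [t_mul_u]
      apply Subtype.ext
      change C a * T 0 = C a
      rw [T_zero, mul_one]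
    rw [this]
    exact Ideal.mul_mem_right _ _ (t_mem_aug I)
  · obtain ⟨k, rfl⟩ : ∃ k : ℕ, n = (k + 1 : ℕ) := ⟨n.toNat - 1, by omega⟩
    have hk : (C a * T (k : ℤ) : B[T;T⁻¹]) ∈ rees I := by
      rw [C_mul_T_mem, ex_natCast, pow_zero, Ideal.one_eq_top]
      trivial
    have : (⟨C a * T ((k + 1 : ℕ) : ℤ), h⟩ : rees I) = t I * ⟨C a * T (k : ℤ), hk⟩ := by
      apply Subtype.ext
      change C a * T ((k + 1 : ℕ) : ℤ) = T 1 * (C a * T (k : ℤ))
      rw [mul_left_comm, ← T_add]
      congr 2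
      push_cast
      ring
    rw [this]
    exact Ideal.mul_mem_right _ _ (t_mem_aug I)

/-- An element of the Rees algebra with degree zero coefficient in `I` is in the augmentation ideal. -/
theorem mem_aug (p : rees I) (hp : (p : B[T;T⁻¹]).coeff 0 ∈ I) : p ∈ aug I := by
  have hm : ∀ n, (C ((p : B[T;T⁻¹]).coeff n) * T n : B[T;T⁻¹]) ∈ rees I := fun n =>
    (C_mul_T_mem I).2 (p.2 n)
  have h1 : p = ∑ n ∈ (p : B[T;T⁻¹]).coeff.support,
      (⟨C ((p : B[T;T⁻¹]).coeff n) * T n, hm n⟩ : rees I) := by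
    apply Subtype.ext
    rw [AddSubmonoidClass.coe_finsetSum]
    exact eq_sum _
  rw [h1]
  refine sum_mem fun n _ => mem_aug_of_homogeneous I n _ _ ?_
  rintro rfl
  exact hp

end

end Groth.Agent.Vancyc.H691.ReesZero
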