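import Groth.Agent.Ega2.H280.RelSpecAlg
import Groth.Agent.Vancyc.H120.DefSp4
import Groth.Agent.Vancyc.H691.ReesZero

/-!
# Functions on the deformation to the normal cone over affine opens
-/

set_option autoImplicit false
universe u

open CategoryTheory CategoryTheory.Limits AlgebraicGeometry Opposite TopologicalSpace
open AlgebraicGeometry.Scheme.AffineZariskiSite AlgebraicGeometry.Scheme

namespace Groth.Agent.Vancyc.H691.RelSec

open Groth.Agent.CohqB Groth.Agent.Ega2.H280.RelSpecAlg Groth.Agent.CohqB.RelSpec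

section General

variable {X : Scheme.{u}} {F : X.AffineZariskiSiteᵒᵖ ⥤ CommRingCat.{u}}
  {α : (Scheme.AffineZariskiSite.toOpensFunctor X).op ⋙ X.presheaf ⟶ F} (H : α.Coequifibered)

/-- The ring maps of `lift`. -/
theorem lift_appLE {T : Scheme.{u}} {g : T ⟶ X} (d : LiftData α g) (U : X.AffineZariskiSite)
    (h : g ⁻¹ᵁ U.toOpens ≤ lift H d ⁻¹ᵁ (toBase H ⁻¹ᵁ U.toOpens)) :
    (lift H d).appLE (toBase H ⁻¹ᵁ U.toOpens) (g ⁻¹ᵁ U.toOpens) h = secHom H U ≫ d.ψ U := by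
  have h1 := ι_lift H d U
  have hV : (⊤ : ((g ⁻¹ᵁ U.toOpens).toScheme).Opens) ≤
      (g ⁻¹ᵁ U.toOpens).ι ⁻¹ᵁ (g ⁻¹ᵁ U.toOpens) := by simp
  have e1 := Scheme.Hom.appLE_comp_appLE (g ⁻¹ᵁ U.toOpens).ι (lift H d)
    (toBase H ⁻¹ᵁ U.toOpens) (g ⁻¹ᵁ U.toOpens) ⊤ h hV
  have e2 := appLE_congr_hom h1 (toBase H ⁻¹ᵁ U.toOpens) ⊤ (hV.trans
    ((g ⁻¹ᵁ U.toOpens).ι.preimage_mono h))
  have e3 := Scheme.Hom.appLE_comp_appLE ((g ⁻¹ᵁ U.toOpens).toSpecΓ ≫ Spec.map (d.ψ U)) (ι H U)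
    (toBase H ⁻¹ᵁ U.toOpens) ⊤ ⊤ (top_le H U) le_top
  have e4 : ((g ⁻¹ᵁ U.toOpens).toSpecΓ ≫ Spec.map (d.ψ U)).appLE ⊤ ⊤ le_top =
      (Scheme.ΓSpecIso _).hom ≫ d.ψ U ≫ (g ⁻¹ᵁ U.toOpens).topIso.inv := by
    have : ((g ⁻¹ᵁ U.toOpens).toSpecΓ ≫ Spec.map (d.ψ U)).appLE ⊤ ⊤ le_top =
      ((g ⁻¹ᵁ U.toOpens).toSpecΓ ≫ Spec.map (d.ψ U)).appTop := Scheme.Hom.appLE_eq_app _
    rw [this, Scheme.Hom.comp_appTop, Scheme.Opens.toSpecΓ_appTop, Scheme.ΓSpecIso_naturality_assoc]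
  have e5 : (g ⁻¹ᵁ U.toOpens).ι.appLE (g ⁻¹ᵁ U.toOpens) ⊤ hV = (g ⁻¹ᵁ U.toOpens).topIso.inv := by
    rw [Scheme.Opens.ι_appLE]
    rfl
  have e6 : (lift H d).appLE (toBase H ⁻¹ᵁ U.toOpens) (g ⁻¹ᵁ U.toOpens) h ≫
      (g ⁻¹ᵁ U.toOpens).topIso.inv = (secHom H U ≫ d.ψ U) ≫ (g ⁻¹ᵁ U.toOpens).topIso.inv := by
    rw [← e5, e1, e2]
    refine Eq.trans ?_ (e3.symm.trans ?_)
    · apply appLE_congr_hom
      simp only [Category.assoc]
    · rw [e4, e5, secHom]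
      simp only [Category.assoc]
  exact (cancel_mono _).1 e6

end General

section W

open Groth.Agent.Vancyc.H120 Groth.Agent.Vancyc.H120.DefSp Groth.Agent.Vancyc.H120.ReesFib
open Groth.Agent.Vancyc.H120.ReesSch

variable {X : Scheme.{u}} (J : X.IdealSheafData)

/-- Functions on `W` over an affine open of `X`. -/
noncomputable def sec (U : X.AffineZariskiSite) :
    Γ(W J, toX J ⁻¹ᵁ U.toOpens) →+* Rees.rees (idl J U) :=
  (secHom (DefSp.coequifibered J) U).hom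

theorem sec_bijective (U : X.AffineZariskiSite) : Function.Bijective (sec J U) :=
  (ConcreteCategory.isIso_iff_bijective (secHom (DefSp.coequifibered J) U)).1 inferInstance

theorem sec_app (U : X.AffineZariskiSite) (a : Γ(X, U.toOpens)) :
    sec J U (((toX J).app U.toOpens).hom a) = algebraMap _ _ a :=
  congr($(app_secHom (DefSp.coequifibered J) U).hom a)

variable {R : Type u} [CommRing R] (p : X ⟶ Spec (CommRingCat.of R))

theorem fnOf_Spec {A A' : Type u} [CommRing A] [CommRing A'] (f : A →+* A') (a : A) :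
    (Scheme.ΓSpecIso (CommRingCat.of A')).hom.hom (fnOf (Spec.map (CommRingCat.ofHom f)) ⊤ a) =
      f a := by
  unfold fnOf
  have h1 : ((Spec.map (CommRingCat.ofHom f)).appTop ≫ (Spec (CommRingCat.of A')).presheaf.map
      (homOfLE (le_top : (⊤ : (Spec (CommRingCat.of A')).Opens) ≤ ⊤)).op) =
      (Spec.map (CommRingCat.ofHom f)).appTop :=
    (congrArg (fun t => (Spec.map (CommRingCat.ofHom f)).appTop ≫ t)
      ((Spec (CommRingCat.of A')).presheaf.map_id _)).trans (Category.comp_id _)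
  have h2 : (Scheme.ΓSpecIso (CommRingCat.of A)).inv ≫ ((Spec.map (CommRingCat.ofHom f)).appTop ≫
      (Spec (CommRingCat.of A')).presheaf.map
        (homOfLE (le_top : (⊤ : (Spec (CommRingCat.of A')).Opens) ≤ ⊤)).op) ≫
      (Scheme.ΓSpecIso (CommRingCat.of A')).hom = CommRingCat.ofHom f := by
    rw [h1, Scheme.ΓSpecIso_naturality, Iso.inv_hom_id_assoc]
  exact congr($(h2).hom a)

theorem sec_fn (U : X.AffineZariskiSite) :
    sec J U (fnOf (tW J p) (toX J ⁻¹ᵁ U.toOpens) Polynomial.X) = Rees.t _ := by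
  have h1 := app_fnOf (tW J p) (chart J U) (toX J ⁻¹ᵁ U.toOpens) ⊤
    (top_le (DefSp.coequifibered J) U) Polynomial.X
  change (Scheme.ΓSpecIso (CommRingCat.of (Rees.rees (idl J U)))).hom.hom
    (((chart J U).appLE (toX J ⁻¹ᵁ U.toOpens) ⊤ (top_le (DefSp.coequifibered J) U)).hom
      (fnOf (tW J p) (toX J ⁻¹ᵁ U.toOpens) Polynomial.X)) = _
  rw [h1, chart_tW, fnOf_Spec]
  simp [tRees]

theorem zetaS_appLE {T : Scheme.{u}} (g : T ⟶ X) (hg : J ≤ g.ker) (s : Γ(T, ⊤))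
    (U : X.AffineZariskiSite)
    (h : g ⁻¹ᵁ U.toOpens ≤ zetaS J g hg s ⁻¹ᵁ (toX J ⁻¹ᵁ U.toOpens))
    (y : Γ(W J, toX J ⁻¹ᵁ U.toOpens)) :
    ((zetaS J g hg s).appLE (toX J ⁻¹ᵁ U.toOpens) (g ⁻¹ᵁ U.toOpens) h).hom y =
      zetaψ J g hg s U (sec J U y) :=
  congr($(lift_appLE (DefSp.coequifibered J) (zetaData J g hg s) U h).hom y)

/-- For `s = 0` the ring map is the coefficient of degree zero. -/
theorem eval_zero_polyMap {B S : Type*} [CommRing B] [CommRing S] (I : Ideal B) (φ : B →+* S)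
    (h : ∀ a ∈ I, φ a = 0) (q : Rees.rees I) :
    (polyMap I φ h q).eval 0 = φ ((q : LaurentPolynomial B).coeff 0) := by
  have h1 := congrArg (fun x : LaurentPolynomial S => x.coeff 0) (toLaurent_polyMap I φ h q)
  simp only [Rees.coeff_lmap] at h1
  rw [← h1, ← Polynomial.coeff_zero_eq_eval_zero]
  rw [LaurentPolynomial.coeff_toLaurent]
  exact (Finsupp.mapDomain_apply (f := ((↑) : ℕ → ℤ)) Nat.cast_injective _ 0).symm

end W

end Groth.Agent.Vancyc.H691.RelSec
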