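import Groth.Agent.Vancyc.H691.SpecFib

/-!
# The transversal squares of the deformation to the normal cone

`i : Z ⟶ X` over `Spec R`, `ZA = Z ×_R 𝔸¹`, `ζ : ZA ⟶ W i.ker`.  The squares of `ζ` over the points `1` and `0` of the
affine line are `i : Z ⟶ X` and `s0 : Z ⟶ W0`.
-/

set_option autoImplicit false
universe u

open CategoryTheory CategoryTheory.Limits AlgebraicGeometry Opposite TopologicalSpace

namespace Groth.Agent.Vancyc.H691.Squares

open Groth.Agent.Vancyc.H120 Groth.Agent.Vancyc.H120.DefSp Groth.Agent.Vancyc.H691.SpecFib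

noncomputable section

variable {Z X : Scheme.{u}} (i : Z ⟶ X) {R : Type u} [CommRing R] (p : X ⟶ Spec (CommRingCat.of R))

/-- `Spec R[X] ⟶ Spec R`. -/
abbrev str (R : Type u) [CommRing R] : Spec (CommRingCat.of (Polynomial R)) ⟶ Spec (CommRingCat.of R) :=
  Spec.map (CommRingCat.ofHom (Polynomial.C : R →+* Polynomial R))

/-- `Z ×_R 𝔸¹`. -/
abbrev ZA : Scheme.{u} := pullback (i ≫ p) (str R)

/-- The projection to `Z`. -/
abbrev pr : ZA i p ⟶ Z := pullback.fst _ _

/-- The coordinate. -/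
abbrev co : ZA i p ⟶ Spec (CommRingCat.of (Polynomial R)) := pullback.snd _ _

/-- The section with value `c`. -/
def sct (c : R) : Z ⟶ ZA i p := pullback.lift (𝟙 Z) (i ≫ p ≫ pt R c) (by simp)

@[reassoc (attr := simp)]
theorem sct_pr (c : R) : sct i p c ≫ pr i p = 𝟙 Z := pullback.lift_fst _ _ _

@[reassoc (attr := simp)]
theorem sct_co (c : R) : sct i p c ≫ co i p = i ≫ p ≫ pt R c := pullback.lift_snd _ _ _

theorem isPullback_sct (c : R) : IsPullback (sct i p c) (i ≫ p) (co i p) (pt R c) := by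
  have h1 : IsPullback (sct i p c ≫ pr i p) (i ≫ p) (i ≫ p) (pt R c ≫ str R) := by
    rw [sct_pr, pt_C]
    exact IsPullback.of_horiz_isIso ⟨by simp⟩
  have h2 : IsPullback (pr i p) (co i p) (i ≫ p) (str R) := IsPullback.of_hasPullback _ _
  exact IsPullback.of_right h1 (by simp) h2

theorem le_ker : i.ker ≤ (pr i p ≫ i).ker := Scheme.Hom.le_ker_comp _ _

/-- The family of zero sections. -/
def ζ : ZA i p ⟶ W i.ker := zeta i.ker (pr i p ≫ i) (le_ker i p) (co i p)

@[reassoc]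
theorem ζ_tW : ζ i p ≫ tW i.ker p = co i p := by
  rw [ζ, zeta_tW]
  rw [Category.assoc]
  exact pullback.condition

@[reassoc]
theorem ζ_toX : ζ i p ≫ toX i.ker = pr i p ≫ i := zeta_toX _ _ _ _

instance isClosedImmersion_ζ [IsClosedImmersion i] : IsClosedImmersion (ζ i p) :=
  isClosedImmersion_zeta i p (IsPullback.of_hasPullback _ _) (le_ker i p)

theorem sct_ζ (c : R) (h : i.ker ≤ i.ker) :
    sct i p c ≫ ζ i p = zeta i.ker i h (i ≫ p ≫ pt R c) := by
  have hg : i.ker ≤ (sct i p c ≫ pr i p ≫ i).ker := by rw [sct_pr_assoc]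
  rw [ζ, comp_zeta i.ker (sct i p c) (pr i p ≫ i) (le_ker i p) (co i p) hg]
  exact zeta_congr i.ker _ _ (by simp) (by simp)

theorem sct_one_ζ : sct i p 1 ≫ ζ i p = i ≫ one i.ker := by
  rw [sct_ζ i p 1 le_rfl, ← comp_one i.ker p i le_rfl]
  rfl

theorem sct_zero_ζ : sct i p 0 ≫ ζ i p = s0 i p ≫ j0 i p := by
  rw [sct_ζ i p 0 le_rfl, s0_j0]

/-- The square at `1`. -/
theorem isPullback_one' : IsPullback (sct i p 1) i (ζ i p) (one i.ker) := by
  refine IsPullback.of_bot (v₂₁ := p) (v₂₂ := tW i.ker p) (h₃₁ := pt R 1) ?_ (sct_one_ζ i p)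
    (isPullback_one i.ker p)
  rw [ζ_tW]
  exact isPullback_sct i p 1

/-- The square at `0`. -/
theorem isPullback_zero' : IsPullback (sct i p 0) (s0 i p) (ζ i p) (j0 i p) := by
  refine IsPullback.of_bot (v₂₁ := pullback.snd _ _) (v₂₂ := tW i.ker p) (h₃₁ := pt R 0) ?_
    (sct_zero_ζ i p) (IsPullback.of_hasPullback _ _)
  have h1 : s0 i p ≫ pullback.snd (tW i.ker p) (pt R 0) = i ≫ p := pullback.lift_snd _ _ _
  rw [ζ_tW, h1]
  exact isPullback_sct i p 0

end

end Groth.Agent.Vancyc.H691.Squares
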