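import Groth.Agent.CohqB.AlgSym
import Groth.Prelude.Def_Omega2

/-!
# The zero locus of a map to the relative spectrum of a symmetric algebra

* `eq_of_appLE`: two morphisms to a scheme affine over `X` agree if the ring maps over a cover of `X` by affine opens
  agree.
* `zero hM : X ⟶ V hM`, the zero section.
* `app_eq_of_toV_eq`: `toV` is injective.
* `isPullback_zero`: criterion for a section `s` of an affine `h : Y ⟶ X` to be the inverse image of the zero section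
  under `toV hM h ρ : Y ⟶ V hM`.
-/

set_option autoImplicit false
universe u

open CategoryTheory Limits AlgebraicGeometry Opposite TopologicalSpace

namespace Groth.Agent.Vancyc.H691.Cone

open Groth.Agent.CohqB.AlgSys Groth.Agent.CohqB.AlgSym
open AlgebraicGeometry.Scheme.AffineZariskiSite AlgebraicGeometry.Scheme

/-- Two morphisms to a scheme affine over `X` agree if they agree over `X` and on the functions over an affine cover. -/
theorem eq_of_appLE {T Y X : Scheme.{u}} (q : Y ⟶ X) [IsAffineHom q] {g : T ⟶ X} (a b : T ⟶ Y)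
    (ha : a ≫ q = g) (hb : b ≫ q = g) {J : Type u} (U : J → X.Opens) (hU : ∀ j, IsAffineOpen (U j))
    (hcov : ⨆ j, U j = ⊤)
    (H : ∀ j, a.appLE (q ⁻¹ᵁ U j) (g ⁻¹ᵁ U j) (le_preimage g q a ha (U j)) =
      b.appLE (q ⁻¹ᵁ U j) (g ⁻¹ᵁ U j) (le_preimage g q b hb (U j))) : a = b := by
  have key : ∀ (c : T ⟶ Y) (hc : c ≫ q = g) (j : J),
      (g ⁻¹ᵁ U j).ι ≫ c = (g ⁻¹ᵁ U j).toSpecΓ ≫ Spec.map (c.appLE (q ⁻¹ᵁ U j) (g ⁻¹ᵁ U j)
        (le_preimage g q c hc (U j))) ≫ ((hU j).preimage q).fromSpec := by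
    intro c hc j
    rw [Scheme.Opens.toSpecΓ_SpecMap_appLE_assoc, IsAffineOpen.toSpecΓ_fromSpec,
      Scheme.Hom.resLE_comp_ι]
  refine Scheme.Cover.hom_ext (T.openCoverOfIsOpenCover _
    (.comap (show IsOpenCover U from hcov) g.base.hom)) _ _ fun j ↦ ?_
  change (g ⁻¹ᵁ U j).ι ≫ a = (g ⁻¹ᵁ U j).ι ≫ b
  rw [key a ha j, key b hb j, H j]

theorem toSpecΓ_cancel {T : Scheme.{u}} (U : T.Opens) {A : CommRingCat.{u}} (φ φ' : A ⟶ Γ(T, U))
    (h : U.toSpecΓ ≫ Spec.map φ = U.toSpecΓ ≫ Spec.map φ') : φ = φ' := by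
  have h1 := congr(Scheme.Hom.appTop $h)
  rw [Scheme.Hom.comp_appTop, Scheme.Hom.comp_appTop, U.toSpecΓ_appTop] at h1
  have h2 := congr((Scheme.ΓSpecIso A).inv ≫ $h1)
  rw [Scheme.ΓSpecIso_naturality_assoc,
    Scheme.ΓSpecIso_naturality_assoc, Iso.inv_hom_id_assoc, Iso.inv_hom_id_assoc] at h2
  exact (cancel_mono U.topIso.inv).1 h2

variable {X : Scheme.{u}} {M : X.Modules}

/-- The zero section. -/
noncomputable def zero (hM : Coh.IsQCoh M) : X ⟶ V hM := toV hM (𝟙 X) 0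

@[reassoc (attr := simp)]
theorem zero_toX (hM : Coh.IsQCoh M) : zero hM ≫ toX hM = 𝟙 X := toV_toX _ _ _

/-- A morphism to `V` is determined by the linear map. -/
theorem app_eq_of_toV_eq (hM : Coh.IsQCoh M) {T : Scheme.{u}} (g : T ⟶ X) (ρ ρ' : M ⟶ Oalg g)
    (h : toV hM g ρ = toV hM g ρ') (U : X.Opens) (hU : IsAffineOpen U) (m : Γ(M, U)) :
    ρ.app U m = ρ'.app U m := by
  let U' : X.AffineZariskiSite := ⟨U, hU⟩
  have h1 := CohqB.RelSpec.ι_lift (coequifibered hM) (liftData g ρ) U'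
  have h2 := CohqB.RelSpec.ι_lift (coequifibered hM) (liftData g ρ') U'
  have h3 : (g ⁻¹ᵁ U'.toOpens).ι ≫ CohqB.RelSpec.lift (coequifibered hM) (liftData g ρ) =
    (g ⁻¹ᵁ U'.toOpens).ι ≫ CohqB.RelSpec.lift (coequifibered hM) (liftData g ρ') :=
    congrArg ((g ⁻¹ᵁ U'.toOpens).ι ≫ ·) h
  rw [h1, h2, ← Category.assoc, ← Category.assoc, cancel_mono] at h3
  have h4 := toSpecΓ_cancel _ _ _ h3
  have h5 : ψ g ρ U (SymmetricAlgebra.ι _ _ m) = ψ g ρ' U (SymmetricAlgebra.ι _ _ m) :=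
    congr($(h4).hom (SymmetricAlgebra.ι _ _ m))
  rw [ψ_ι, ψ_ι] at h5
  exact (toFun g U).injective h5

/-- Criterion for a section to be the inverse image of the zero section. -/
theorem isPullback_zero (hM : Coh.IsQCoh M) {Y : Scheme.{u}} (h : Y ⟶ X) [IsAffineHom h]
    (ρ : M ⟶ Oalg h) (s : X ⟶ Y) (hs : s ≫ h = 𝟙 X) (h0 : ρ ≫ Omap (𝟙 X) h s hs = 0)
    {J : Type u} (U : J → X.Opens) (hU : ∀ j, IsAffineOpen (U j)) (hcov : ⨆ j, U j = ⊤)
    (H : ∀ j (y : Γ(Y, h ⁻¹ᵁ U j)),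
      (s.appLE (h ⁻¹ᵁ U j) (𝟙 X ⁻¹ᵁ U j) (le_preimage (𝟙 X) h s hs (U j))).hom y = 0 →
        y ∈ Ideal.span (Set.range fun m : Γ(M, U j) => toFun h (U j) (ρ.app (U j) m))) :
    IsPullback s (𝟙 X) (toV hM h ρ) (zero hM) := by
  have w : s ≫ toV hM h ρ = 𝟙 X ≫ zero hM := by
    rw [Category.id_comp]
    exact comp_toV hM (𝟙 X) h 0 ρ s hs h0
  refine ⟨⟨w⟩, ⟨PullbackCone.IsLimit.mk w (fun c => c.snd) ?_ (fun c => Category.comp_id _) ?_⟩⟩
  · intro c
    have hc : c.fst ≫ h = c.snd := by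
      have := congr($(c.condition) ≫ toX hM)
      rwa [Category.assoc, Category.assoc, toV_toX, zero_toX, Category.comp_id] at this
    refine eq_of_appLE h (c.snd ≫ s) c.fst (by rw [Category.assoc, hs, Category.comp_id]) hc U hU
      hcov fun j => ?_
    ext1
    refine RingHom.ext fun y => ?_
    -- the linear map is killed by `c.fst`
    have hk : ∀ m : Γ(M, U j),
        (c.fst.appLE (h ⁻¹ᵁ U j) (c.snd ⁻¹ᵁ U j) (le_preimage c.snd h c.fst hc (U j))).hom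
          (toFun h (U j) (ρ.app (U j) m)) = 0 := by
      intro m
      have e1 : c.fst ≫ toV hM h ρ = toV hM c.snd (ρ ≫ Omap c.snd h c.fst hc) :=
        comp_toV hM c.snd h _ ρ c.fst hc rfl
      have e2 : c.snd ≫ zero hM = toV hM c.snd (0 ≫ Omap c.snd (𝟙 X) c.snd (Category.comp_id _)) :=
        comp_toV hM c.snd (𝟙 X) _ 0 c.snd (Category.comp_id _) rfl
      have e3 := app_eq_of_toV_eq hM c.snd _ _ (e1.symm.trans (c.condition.trans e2)) (U j) (hU j) m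
      rw [zero_comp] at e3
      exact e3
    let y₀ : Γ(X, U j) := (s.appLE (h ⁻¹ᵁ U j) (𝟙 X ⁻¹ᵁ U j) (le_preimage (𝟙 X) h s hs (U j))).hom y
    have e4 : y - (h.app (U j)).hom y₀ ∈
        Ideal.span (Set.range fun m : Γ(M, U j) => toFun h (U j) (ρ.app (U j) m)) := by
      apply H
      rw [map_sub, sub_eq_zero]
      exact (appLE_app (𝟙 X) h s hs (U j) y₀).symm
    have e5 : (c.fst.appLE (h ⁻¹ᵁ U j) (c.snd ⁻¹ᵁ U j) (le_preimage c.snd h c.fst hc (U j))).hom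
        (y - (h.app (U j)).hom y₀) = 0 := by
      have : Ideal.span (Set.range fun m : Γ(M, U j) => toFun h (U j) (ρ.app (U j) m)) ≤
          RingHom.ker (c.fst.appLE (h ⁻¹ᵁ U j) (c.snd ⁻¹ᵁ U j)
            (le_preimage c.snd h c.fst hc (U j))).hom := by
        rw [Ideal.span_le]
        rintro _ ⟨m, rfl⟩
        exact hk m
      exact this e4
    rw [map_sub, sub_eq_zero] at e5
    refine Eq.trans ?_ e5.symm
    refine Eq.trans ?_ (appLE_app c.snd h c.fst hc (U j) y₀).symm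
    have e6 := Scheme.Hom.appLE_comp_appLE c.snd s (h ⁻¹ᵁ U j) (𝟙 X ⁻¹ᵁ U j)
      (c.snd ⁻¹ᵁ (𝟙 X ⁻¹ᵁ U j)) (le_preimage (𝟙 X) h s hs (U j)) le_rfl
    rw [← Scheme.Hom.app_eq_appLE] at e6
    exact congr($(e6.symm) y)
  · intro c m h1 h2
    rw [← h2, Category.comp_id]

section Adj

variable {Z Y : Scheme.{u}} (i : Z ⟶ X) (h : Y ⟶ Z) {N : X.Modules}

/-- The linear map on the pullback attached to a linear map `N ⟶ (h ≫ i)_* O_Y`. -/
noncomputable def adj (ρ' : N ⟶ Oalg (h ≫ i)) : (Scheme.Modules.pullback i).obj N ⟶ Oalg h :=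
  ((Scheme.Modules.pullbackPushforwardAdjunction i).homEquiv N (Oalg h)).symm
    (ρ' ≫ (Scheme.Modules.pushforwardComp h i).inv.app (Coh.structureModule Y))

theorem adj_unit (ρ' : N ⟶ Oalg (h ≫ i)) (U : X.Opens) (x : Γ(N, U)) :
    toFun h (i ⁻¹ᵁ U) ((adj i h ρ').app (i ⁻¹ᵁ U)
      (((Scheme.Modules.pullbackPushforwardAdjunction i).unit.app N).app U x)) =
    toFun (h ≫ i) U (ρ'.app U x) := by
  have h1 := ((Scheme.Modules.pullbackPushforwardAdjunction i).homEquiv N (Oalg h)).apply_symm_apply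
    (ρ' ≫ (Scheme.Modules.pushforwardComp h i).inv.app (Coh.structureModule Y))
  rw [Adjunction.homEquiv_unit] at h1
  exact congr($(h1).app U x)

theorem adj_comp_eq_zero (ρ' : N ⟶ Oalg (h ≫ i)) (s : Z ⟶ Y) (hs : s ≫ h = 𝟙 Z)
    (h0 : ρ' ≫ Omap i (h ≫ i) s (by rw [← Category.assoc, hs, Category.id_comp]) = 0) :
    adj i h ρ' ≫ Omap (𝟙 Z) h s hs = 0 := by
  apply ((Scheme.Modules.pullbackPushforwardAdjunction i).homEquiv N (Oalg (𝟙 Z))).injective
  rw [Adjunction.homEquiv_naturality_right]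
  rw [adj, Equiv.apply_symm_apply, Adjunction.homEquiv_unit]
  ext U x
  have h1 : (ρ' ≫ Omap i (h ≫ i) s (by rw [← Category.assoc, hs, Category.id_comp])).app U x = 0 := by
    rw [h0]
    rfl
  exact h1

/-- The pull back of the zero section, in terms of data on the target of a closed immersion. -/
theorem isPullback_zero_adj [IsAffineHom i] (hN : Coh.IsQCoh ((Scheme.Modules.pullback i).obj N))
    [IsAffineHom h] (ρ' : N ⟶ Oalg (h ≫ i)) (s : Z ⟶ Y) (hs : s ≫ h = 𝟙 Z)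
    (hsi : s ≫ h ≫ i = i) (h0 : ρ' ≫ Omap i (h ≫ i) s hsi = 0)
    {J : Type u} (U : J → X.Opens) (hU : ∀ j, IsAffineOpen (U j)) (hcov : ⨆ j, U j = ⊤)
    (H : ∀ j (y : Γ(Y, (h ≫ i) ⁻¹ᵁ U j)),
      (s.appLE ((h ≫ i) ⁻¹ᵁ U j) (i ⁻¹ᵁ U j) (le_preimage i (h ≫ i) s hsi (U j))).hom y = 0 →
        y ∈ Ideal.span (Set.range fun m : Γ(N, U j) => toFun (h ≫ i) (U j) (ρ'.app (U j) m))) :
    IsPullback s (𝟙 Z) (toV hN h (adj i h ρ')) (zero hN) := by
  refine isPullback_zero hN h (adj i h ρ') s hs (adj_comp_eq_zero i h ρ' s hs h0)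
    (fun j => i ⁻¹ᵁ U j) (fun j => (hU j).preimage i) ?_ ?_
  · rw [← Scheme.Hom.preimage_iSup, hcov]
    rfl
  · intro j y hy
    refine Ideal.span_mono ?_ (H j y hy)
    rintro _ ⟨m, rfl⟩
    exact ⟨_, adj_unit i h ρ' (U j) m⟩

end Adj

end Groth.Agent.Vancyc.H691.Cone
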