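import Groth.Agent.Ega2.GeoRelDim
import Groth.Agent.Lefpen.H705.ClosedPoint
import Groth.Prelude.Def_Milnor
import Mathlib.Topology.JacobsonSpace
import Mathlib.AlgebraicGeometry.Morphisms.Proper

/-!
# The geometric generic fibre of a morphism with isolated critical points

`f : X ⟶ S` over `k` algebraically closed, `X` proper smooth of relative dimension `n + 1`, `S` proper smooth irreducible
curve, `f` smooth on an open `U` whose complement is finite.  Then the points outside `U` are closed and not over the
generic point, and `pullback.snd f η` is proper and smooth of relative dimension `n` for `η` over the generic point.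
-/

set_option autoImplicit false
universe u

open CategoryTheory Limits AlgebraicGeometry Opposite TopologicalSpace

namespace Groth.Agent.Vancyc.H691.GenFib

/-- A finite closed subset of a Jacobson space consists of closed points. -/
theorem isClosed_singleton_of_finite {X : Type*} [TopologicalSpace X] [JacobsonSpace X] {Z : Set X}
    (hZ : IsClosed Z) (hf : Z.Finite) {x : X} (hx : x ∈ Z) : IsClosed ({x} : Set X) := by
  have h1 := closure_inter_closedPoints hZ
  have h2 : IsClosed (Z ∩ closedPoints X) := by
    have h3 : (Z ∩ closedPoints X).Finite := hf.subset Set.inter_subset_left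
    rw [← Set.biUnion_of_singleton (Z ∩ closedPoints X)]
    exact h3.isClosed_biUnion fun y hy => hy.2
  rw [h2.closure_eq] at h1
  exact (h1.ge hx).2

/-- Relative dimensions in a composition. -/
theorem relDim_of_comp {X S B : Scheme.{u}} (f : X ⟶ S) (g : S ⟶ B) (r b a : ℕ) (h : a = r + b)
    [hf : Smooth f] [hg : SmoothOfRelativeDimension b g] [ha : SmoothOfRelativeDimension a (f ≫ g)] :
    SmoothOfRelativeDimension r f := by
  refine ⟨fun x ↦ ?_⟩
  obtain ⟨U, hU, V, hV, hx, e, h'⟩ := Smooth.exists_isStandardSmooth f x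
  obtain ⟨m, hm⟩ := Picfga.CurveRelDim.exists_relativeDimension h'
  have hV' := Ega2.GeoRelDim.smoothOfRelativeDimension_ι_comp f m U hU V hV e hm
  have h1 : SmoothOfRelativeDimension (m + b) (V.ι ≫ f ≫ g) := by
    rw [← Category.assoc]
    infer_instance
  have h2 : SmoothOfRelativeDimension (0 + a) (V.ι ≫ f ≫ g) := inferInstance
  obtain rfl : m = r := by
    have := Ega2.GeoRelDim.relDim_unique (V.ι ≫ f ≫ g) _ _ h1 h2 ⟨x, hx⟩
    omega
  exact ⟨U, hU, V, hV, hx, e, hm⟩

/-- A curve over a field smooth of relative dimension one has at least two points. -/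
theorem not_subsingleton {k : Type u} [Field k] {S : Scheme.{u}} (pS : S ⟶ Spec (CommRingCat.of k))
    [SmoothOfRelativeDimension 1 pS] (s : S) (hs : IsClosed ({s} : Set S)) : ¬ Subsingleton ↥S := by
  intro h
  have h1 := Lefpen.H705.ClosedPoint.ringKrullDim_stalk pS 1 s hs
  have h2 : Function.Injective (S.fromSpecStalk s) :=
    (S.fromSpecStalk s).isEmbedding.injective
  have h3 : Subsingleton (PrimeSpectrum (S.presheaf.stalk s)) := h2.subsingleton
  have h4 : ringKrullDim (S.presheaf.stalk s) ≤ 0 := Order.krullDim_nonpos_of_subsingleton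
  rw [h1] at h4
  exact absurd h4 (by decide)

theorem isClosed_of_notMem {k : Type u} [Field k] {X : Scheme.{u}}
    (pX : X ⟶ Spec (CommRingCat.of k)) [LocallyOfFiniteType pX] {U : X.Opens}
    (hU : {x : X | x ∉ U}.Finite) {x : X} (hx : x ∉ U) : IsClosed ({x} : Set X) := by
  have : JacobsonSpace X := LocallyOfFiniteType.jacobsonSpace pX
  exact isClosed_singleton_of_finite (Z := {x : X | x ∉ U}) U.2.isClosed_compl hU hx

theorem isProper {k : Type u} [Field k] {S X : Scheme.{u}} {pS : S ⟶ Spec (CommRingCat.of k)}
    {pX : X ⟶ Spec (CommRingCat.of k)} [IsSeparated pS] [IsProper pX] {f : X ⟶ S}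
    (hf : f ≫ pS = pX) : IsProper f := by
  have : IsProper (f ≫ pS) := by rw [hf]; infer_instance
  exact IsProper.of_comp f pS

section

variable {k : Type u} [Field k] {S X : Scheme.{u}} {pS : S ⟶ Spec (CommRingCat.of k)}
  {pX : X ⟶ Spec (CommRingCat.of k)} [IsProper pS] [SmoothOfRelativeDimension 1 pS]
  [IrreducibleSpace ↥S] [IsProper pX] {f : X ⟶ S} (hf : f ≫ pS = pX)

include hf

theorem map_ne_genericPoint {x : X} (hx : IsClosed ({x} : Set X)) :
    f x ≠ genericPoint S := by
  have := isProper hf
  intro h
  have h1 : IsClosed ({f x} : Set S) := by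
    have := f.isClosedMap _ hx
    rwa [Set.image_singleton] at this
  have h2 : Subsingleton ↥S := by
    rw [← Set.subsingleton_univ_iff, ← (genericPoint_spec S).def, ← h, h1.closure_eq]
    exact Set.subsingleton_singleton
  exact not_subsingleton pS _ h1 h2

variable {U : X.Opens} (hU : {x : X | x ∉ U}.Finite) {Ω : Type u} [Field Ω]
  {η : Spec (CommRingCat.of Ω) ⟶ S} (hη : η.base (IsLocalRing.closedPoint Ω) = genericPoint ↥S)

include hU hη

/-- The geometric generic fibre lies over `U`. -/
theorem fst_mem (z : ↥(pullback f η)) : (pullback.fst f η).base z ∈ U := by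
  by_contra hz
  refine map_ne_genericPoint hf (isClosed_of_notMem pX hU hz) ?_
  have h1 : f ((pullback.fst f η).base z) = η ((pullback.snd f η).base z) :=
    congr($(pullback.condition (f := f) (g := η)) z)
  rw [h1]
  have hsub : Subsingleton ↥(Spec (CommRingCat.of Ω)) :=
    inferInstanceAs (Subsingleton (PrimeSpectrum Ω))
  exact (congrArg η (Subsingleton.elim _ _)).trans hη

theorem isPullback_lift : ∃ l : pullback f η ⟶ U.toScheme, l ≫ U.ι = pullback.fst f η ∧
    IsPullback l (pullback.snd f η) (U.ι ≫ f) η := by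
  have hr : Set.range (pullback.fst f η) ⊆ Set.range U.ι := by
    rintro _ ⟨z, rfl⟩
    rw [Scheme.Opens.range_ι]
    exact fst_mem hf hU hη z
  refine ⟨IsOpenImmersion.lift U.ι (pullback.fst f η) hr, IsOpenImmersion.lift_fac _ _ _, ?_⟩
  have h1 := IsOpenImmersion.isPullback_lift_id (pullback.fst f η) U.ι hr
  have h2 := h1.paste_vert (IsPullback.of_hasPullback f η)
  rwa [Category.id_comp] at h2

theorem smooth_snd (n : ℕ) [SmoothOfRelativeDimension (n + 1) pX] (hUf : Smooth (U.ι ≫ f)) :
    SmoothOfRelativeDimension n (pullback.snd f η) := by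
  obtain ⟨l, -, hl⟩ := isPullback_lift hf hU hη
  have h0 : SmoothOfRelativeDimension (n + 1) ((U.ι ≫ f) ≫ pS) := by
    rw [Category.assoc, hf]
    have h1 : SmoothOfRelativeDimension (0 + (n + 1)) (U.ι ≫ pX) := inferInstance
    rwa [zero_add] at h1
  have h1 : SmoothOfRelativeDimension n (U.ι ≫ f) := relDim_of_comp (U.ι ≫ f) pS n 1 (n + 1) rfl
  exact Ega2.GeoRelDim.relDim_of_isPullback hl h1

omit hU hη [SmoothOfRelativeDimension 1 pS] [IrreducibleSpace ↥S] in
theorem proper_snd (η : Spec (CommRingCat.of Ω) ⟶ S) : IsProper (pullback.snd f η) := by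
  have := isProper hf
  infer_instance

end

/-- The Milnor number at a non closed point is zero. -/
theorem milnor_eq_zero_of_not_isClosed {k : Type u} [Field k] {X S : Scheme.{u}}
    (p : X ⟶ Spec (CommRingCat.of k)) [LocallyOfFiniteType p] (f : X ⟶ S) (x : X)
    (hx : ¬ IsClosed ({x} : Set X)) : VanCyc.milnor p f x = 0 := by
  let _ := VanCyc.stalkAlgebra p x
  change Module.finrank k (X.presheaf.stalk x ⧸ VanCyc.jacIdeal p f x) = 0
  by_cases hI : VanCyc.jacIdeal p f x = ⊤
  · rw [hI]
    have : Subsingleton (X.presheaf.stalk x ⧸ (⊤ : Ideal (X.presheaf.stalk x))) :=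
      Ideal.Quotient.subsingleton_iff.2 rfl
    exact Module.finrank_zero_of_subsingleton
  · by_contra h0
    have hfin : Module.Finite k (X.presheaf.stalk x ⧸ VanCyc.jacIdeal p f x) :=
      Module.finite_of_finrank_pos (Nat.pos_of_ne_zero h0)
    apply hx
    rw [CurvesB.Node.isClosed_iff_finite p x]
    let _ := @Curv2.resAlgebra k _ X ⟨p⟩ x
    have hle : VanCyc.jacIdeal p f x ≤ RingHom.ker (X.residue x).hom := by
      have : RingHom.ker (X.residue x).hom = IsLocalRing.maximalIdeal (X.presheaf.stalk x) :=
        IsLocalRing.ker_residue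
      rw [this]
      exact IsLocalRing.le_maximalIdeal hI
    let φ : (X.presheaf.stalk x ⧸ VanCyc.jacIdeal p f x) →ₗ[k] X.residueField x :=
      { Ideal.Quotient.lift (VanCyc.jacIdeal p f x) (X.residue x).hom hle with
        map_smul' := fun a b => by
          obtain ⟨b, rfl⟩ := Ideal.Quotient.mk_surjective b
          change (X.residue x).hom (algebraMap k (X.presheaf.stalk x) a * b) =
            algebraMap k (X.residueField x) a * (X.residue x).hom b
          rw [map_mul]
          rfl }
    refine Module.Finite.of_surjective φ ?_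
    intro y
    obtain ⟨z, rfl⟩ := X.residue_surjective x y
    exact ⟨Ideal.Quotient.mk _ z, rfl⟩

end Groth.Agent.Vancyc.H691.GenFib
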