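import Groth.Agent.Vancyc.H691.Cone
import Groth.Agent.Vancyc.H691.RelSec
import Groth.Agent.Vancyc.H326.ChiLam

/-!
# The zero scheme of a section of `V(G)`

`t : G ⟶ O_Z`, `sec hG t : Z ⟶ V(G)` the corresponding section.
* `toV_eq_of_app`, `app_eq_of_toV_eq'`;
* `isPullback_sec`: if the ideal of a closed immersion `i : Z' ⟶ Z` over an affine open `U` is generated by the values
  of `t` then `i` is the inverse image of the zero section under `sec hG t` restricted to `U`;
* `notMem_range_of_zeroIdeal_eq_top`;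
* `exists_affine`: at a closed point with `zeroIdeal t z` maximal such a `U` exists.
-/

set_option autoImplicit false
universe u

open CategoryTheory CategoryTheory.Limits AlgebraicGeometry Opposite TopologicalSpace

namespace Groth.Agent.Vancyc.H691.ZeroSch

open Groth.Agent.CohqB.AlgSys Groth.Agent.CohqB.AlgSym Groth.Agent.Vancyc.H691.Cone
open AlgebraicGeometry.Scheme.AffineZariskiSite AlgebraicGeometry.Scheme
open Groth.Agent.Vancyc.H326.ChiLam

/-- Two morphisms `T ⟶ Y` over `X`, `Y` affine over `X`, `T` covered by the inverse images of affine opens of `X`. -/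
theorem eq_of_appLE' {T Y X : Scheme.{u}} (q : Y ⟶ X) [IsAffineHom q] {g : T ⟶ X} (a b : T ⟶ Y)
    (ha : a ≫ q = g) (hb : b ≫ q = g) {J : Type u} (U : J → X.Opens) (hU : ∀ j, IsAffineOpen (U j))
    (hcov : ⨆ j, g ⁻¹ᵁ U j = ⊤)
    (H : ∀ j, a.appLE (q ⁻¹ᵁ U j) (g ⁻¹ᵁ U j) (le_preimage g q a ha (U j)) =
      b.appLE (q ⁻¹ᵁ U j) (g ⁻¹ᵁ U j) (le_preimage g q b hb (U j))) : a = b := by
  have key : ∀ (c : T ⟶ Y) (hc : c ≫ q = g) (j : J),
      (g ⁻¹ᵁ U j).ι ≫ c = (g ⁻¹ᵁ U j).toSpecΓ ≫ Spec.map (c.appLE (q ⁻¹ᵁ U j) (g ⁻¹ᵁ U j)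
        (le_preimage g q c hc (U j))) ≫ ((hU j).preimage q).fromSpec := by
    intro c hc j
    rw [Scheme.Opens.toSpecΓ_SpecMap_appLE_assoc, IsAffineOpen.toSpecΓ_fromSpec,
      Scheme.Hom.resLE_comp_ι]
  refine Scheme.Cover.hom_ext (T.openCoverOfIsOpenCover _ (show IsOpenCover _ from hcov)) _ _
    fun j ↦ ?_
  change (g ⁻¹ᵁ U j).ι ≫ a = (g ⁻¹ᵁ U j).ι ≫ b
  rw [key a ha j, key b hb j, H j]

variable {Z : Scheme.{u}} {G : Z.Modules}

theorem toV_appLE (hG : Coh.IsQCoh G) {T : Scheme.{u}} (b : T ⟶ Z) (ρ : G ⟶ Oalg b)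
    (U : Z.AffineZariskiSite) (h : b ⁻¹ᵁ U.toOpens ≤ toV hG b ρ ⁻¹ᵁ (toX hG ⁻¹ᵁ U.toOpens)) :
    (toV hG b ρ).appLE (toX hG ⁻¹ᵁ U.toOpens) (b ⁻¹ᵁ U.toOpens) h =
      Ega2.H280.RelSpecAlg.secHom (coequifibered hG) U ≫ CommRingCat.ofHom (ψ b ρ U.toOpens) :=
  RelSec.lift_appLE (coequifibered hG) (liftData b ρ) U h

/-- A morphism to `V(G)` over `b : T ⟶ Z` with image in an affine open `U` is determined by the linear map over `U`. -/
theorem toV_eq_of_app (hG : Coh.IsQCoh G) {T : Scheme.{u}} (b : T ⟶ Z) (ρ ρ' : G ⟶ Oalg b)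
    {U : Z.Opens} (hU : IsAffineOpen U) (hb : b ⁻¹ᵁ U = ⊤)
    (h : ∀ m : Γ(G, U), ρ.app U m = ρ'.app U m) : toV hG b ρ = toV hG b ρ' := by
  have := isAffineHom_toX hG
  let U' : Z.AffineZariskiSite := ⟨U, hU⟩
  refine eq_of_appLE' (toX hG) _ _ (toV_toX hG b ρ) (toV_toX hG b ρ') (fun _ : PUnit => U)
    (fun _ => hU) ?_ fun _ => ?_
  · rw [ciSup_const, hb]
  · refine (toV_appLE hG b ρ U' _).trans (Eq.trans ?_ (toV_appLE hG b ρ' U' _).symm)
    congr 2
    apply Groth.Agent.CohqB.SymLoc.ringHom_ext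
    · intro r
      rw [ψ_algebraMap, ψ_algebraMap]
    · intro m
      rw [ψ_ι, ψ_ι]
      exact congrArg (toFun b U) (h m)

/-- The section of `V(G)` attached to `t : G ⟶ O_Z`. -/
noncomputable def sec (hG : Coh.IsQCoh G) (t : G ⟶ Coh.structureModule Z) : Z ⟶ V hG :=
  toV hG (𝟙 Z) (t ≫ ClSub.unitToPush (𝟙 Z))

@[reassoc (attr := simp)]
theorem sec_toX (hG : Coh.IsQCoh G) (t : G ⟶ Coh.structureModule Z) :
    sec hG t ≫ toX hG = 𝟙 Z := toV_toX _ _ _

/-- The linear map of `b ≫ sec hG t`. -/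
noncomputable def pl (t : G ⟶ Coh.structureModule Z) {T : Scheme.{u}} (b : T ⟶ Z) : G ⟶ Oalg b :=
  t ≫ ClSub.unitToPush b

theorem pl_app (t : G ⟶ Coh.structureModule Z) {T : Scheme.{u}} (b : T ⟶ Z) (U : Z.Opens)
    (m : Γ(G, U)) : toFun b U ((pl t b).app U m) = (b.app U).hom (t.app U m : Γ(Z, U)) := rfl

theorem comp_sec (hG : Coh.IsQCoh G) (t : G ⟶ Coh.structureModule Z) {T : Scheme.{u}} (b : T ⟶ Z) :
    b ≫ sec hG t = toV hG b (pl t b) := by
  refine comp_toV hG b (𝟙 Z) _ _ b (Category.comp_id b) ?_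
  ext U m
  have h1 := Scheme.Hom.appLE_comp_appLE b (𝟙 Z) U U (b ⁻¹ᵁ U) le_rfl le_rfl
  refine (toFun b U).injective ?_
  rw [pl_app]
  exact appLE_app b (𝟙 Z) b (Category.comp_id b) U (t.app U m : Γ(Z, U))

theorem comp_zero' (hG : Coh.IsQCoh G) {T : Scheme.{u}} (b : T ⟶ Z) :
    b ≫ zero hG = toV hG b 0 :=
  comp_toV hG b (𝟙 Z) 0 0 b (Category.comp_id b) zero_comp

/-- `b ≫ sec hG t = b ≫ zero hG` means that the values of `t` die on `T`. -/
theorem comp_sec_eq_of (hG : Coh.IsQCoh G) (t : G ⟶ Coh.structureModule Z) {T : Scheme.{u}}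
    (b : T ⟶ Z) {U : Z.Opens} (hU : IsAffineOpen U) (hb : b ⁻¹ᵁ U = ⊤)
    (h : ∀ m : Γ(G, U), (b.app U).hom (t.app U m : Γ(Z, U)) = 0) :
    b ≫ sec hG t = b ≫ zero hG := by
  rw [comp_sec, comp_zero']
  refine toV_eq_of_app hG b _ _ hU hb fun m => ?_
  apply (toFun b U).injective
  rw [pl_app, h m]
  rfl

theorem app_eq_zero_of_comp_sec (hG : Coh.IsQCoh G) (t : G ⟶ Coh.structureModule Z)
    {T : Scheme.{u}} (b : T ⟶ Z) (h : b ≫ sec hG t = b ≫ zero hG) {U : Z.Opens}
    (hU : IsAffineOpen U) (m : Γ(G, U)) : (b.app U).hom (t.app U m : Γ(Z, U)) = 0 := by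
  rw [comp_sec, comp_zero'] at h
  have h1 := app_eq_of_toV_eq hG b _ _ h U hU m
  rw [← pl_app, h1]
  rfl

/-- The values of `t`. -/
noncomputable def val (t : G ⟶ Coh.structureModule Z) (U : Z.Opens) (m : Γ(G, U)) : Γ(Z, U) := t.app U m

theorem val_res (t : G ⟶ Coh.structureModule Z) {U V : Z.Opens} (h : V ≤ U) (m : Γ(G, U)) :
    (Z.presheaf.map (homOfLE h).op).hom (val t U m) = val t V (G.presheaf.map (homOfLE h).op m) :=
  (ConcreteCategory.congr_hom (t.mapPresheaf.naturality (homOfLE h).op) m).symm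

theorem val_add (t : G ⟶ Coh.structureModule Z) (U : Z.Opens) (m m' : Γ(G, U)) :
    val t U (m + m') = val t U m + val t U m' := map_add (t.app U).hom m m'

/-- The ideal generated by the values of `t` over `U`. -/
noncomputable def valIdeal (t : G ⟶ Coh.structureModule Z) (U : Z.Opens) : Ideal Γ(Z, U) :=
  Ideal.span (Set.range (val t U))

/-- `U` affine, the ideal of `i` over `U` generated by the values of `t`: over `U` the closed immersion `i` is the
inverse image of the zero section under `sec hG t`. -/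
theorem isPullback_sec (hG : Coh.IsQCoh G) (t : G ⟶ Coh.structureModule Z) {Z' : Scheme.{u}}
    (i : Z' ⟶ Z) [IsClosedImmersion i] {U : Z.Opens} (hU : IsAffineOpen U)
    (i' : Z' ⟶ U) (hi' : i' ≫ U.ι = i)
    (H : i.ker.ideal ⟨U, hU⟩ = valIdeal t U) :
    IsPullback i' i (U.ι ≫ sec hG t) (zero hG) := by
  have hpre : ∀ {T : Scheme.{u}} (a : T ⟶ U), (a ≫ U.ι) ⁻¹ᵁ U = ⊤ := fun a => by
    rw [Scheme.Hom.comp_preimage, Scheme.Opens.ι_preimage_self, Scheme.Hom.preimage_top]
  have hb : i ⁻¹ᵁ U = ⊤ := by rw [← hi', hpre]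
  have hci : IsClosedImmersion i' := by
    have : IsClosedImmersion (i' ≫ U.ι) := by rw [hi']; infer_instance
    exact IsClosedImmersion.of_comp i' U.ι
  have haff : IsAffine U := hU
  -- values on a `T`-point
  have hle : ∀ {T : Scheme.{u}} (a : T ⟶ U), (⊤ : T.Opens) ≤ (a ≫ U.ι) ⁻¹ᵁ U := fun a =>
    (hpre a).ge
  have hι : (⊤ : (U : Scheme.{u}).Opens) ≤ U.ι ⁻¹ᵁ U := (Scheme.Opens.ι_preimage_self U).ge
  have hiso : IsIso (U.ι.appLE U ⊤ hι) := by
    rw [Scheme.Hom.appLE]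
    have h1 : IsIso ((U : Scheme.{u}).presheaf.map (homOfLE hι).op) := by
      have h2 : IsIso (homOfLE hι) := by
        have : (homOfLE hι) = eqToHom (Scheme.Opens.ι_preimage_self U).symm :=
          Subsingleton.elim _ _
        rw [this]; infer_instance
      infer_instance
    have h3 : IsIso (U.ι.app U) := by
      rw [Scheme.Opens.ι_app_self]
      exact Functor.map_isIso Z.presheaf _
    infer_instance
  have hcomp : ∀ {T : Scheme.{u}} (a : T ⟶ U) (y : Γ(Z, U)),
      ((a ≫ U.ι).app U).hom y = 0 ↔ (a.appTop).hom ((U.ι.appLE U ⊤ hι).hom y) = 0 := by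
    intro T a y
    have h1 : (U.ι.appLE U ⊤ hι) ≫ a.appTop = (a ≫ U.ι).appLE U ⊤ (hle a) := by
      have := Scheme.Hom.appLE_comp_appLE a U.ι U ⊤ ⊤ hι le_rfl
      rw [← this]
      congr 1
      exact (Scheme.Hom.appLE_eq_app _).symm
    have h2 : (a.appTop).hom ((U.ι.appLE U ⊤ hι).hom y) =
        (T.presheaf.map (homOfLE (hle a)).op).hom (((a ≫ U.ι).app U).hom y) := by
      rw [← CommRingCat.comp_apply, h1, Scheme.Hom.appLE, CommRingCat.comp_apply]
    rw [h2]
    refine ⟨fun h => by rw [h, map_zero], fun h => ?_⟩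
    have h3 : IsIso (T.presheaf.map (homOfLE (hle a)).op) := by
      have h2 : IsIso (homOfLE (hle a)) := by
        have : (homOfLE (hle a)) = eqToHom (hpre a).symm := Subsingleton.elim _ _
        rw [this]; infer_instance
      infer_instance
    exact (map_eq_zero_iff _
      (ConcreteCategory.bijective_of_isIso (T.presheaf.map (homOfLE (hle a)).op)).1).1 h
  have hw : i' ≫ U.ι ≫ sec hG t = i ≫ zero hG := by
    rw [← Category.assoc, hi']
    refine comp_sec_eq_of hG t i hU hb fun m => ?_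
    have h1 : val t U m ∈ i.ker.ideal ⟨U, hU⟩ := by
      rw [H]; exact Ideal.subset_span ⟨m, rfl⟩
    rw [Scheme.Hom.ker_apply] at h1
    exact h1
  have key : ∀ (T : Scheme.{u}) (a : T ⟶ U) (b : T ⟶ Z), a ≫ U.ι ≫ sec hG t = b ≫ zero hG →
      a ≫ U.ι = b ∧ i'.ker ≤ a.ker := by
    intro T a b hab
    have h1 : a ≫ U.ι = b := by
      have := congrArg (· ≫ toX hG) hab
      simpa only [Category.assoc, sec_toX, zero_toX, Category.comp_id] using this
    refine ⟨h1, ?_⟩
    have h2 : b ≫ sec hG t = b ≫ zero hG := by rw [← hab, ← Category.assoc, h1]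
    have h3 : ∀ y ∈ i.ker.ideal ⟨U, hU⟩, (b.app U).hom y = 0 := by
      intro y hy
      rw [H] at hy
      have : valIdeal t U ≤ RingHom.ker (b.app U).hom := by
        rw [valIdeal, Ideal.span_le]
        rintro _ ⟨m, rfl⟩
        exact app_eq_zero_of_comp_sec hG t b h2 hU m
      exact this hy
    refine IdealSheafData.le_of_isAffine ?_
    rw [ker_of_isAffine a]
    intro x hx
    rw [Scheme.Hom.ker_apply] at hx
    simp only [IdealSheafData.ofIdealTop_ideal]
    obtain ⟨y, rfl⟩ := (ConcreteCategory.bijective_of_isIso (U.ι.appLE U ⊤ hι)).2 x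
    have h4 : ((i' ≫ U.ι).app U).hom y = 0 := (hcomp i' y).2 hx
    have h5 : ((a ≫ U.ι).app U).hom y = 0 := by
      subst h1
      refine h3 y ?_
      rw [Scheme.Hom.ker_apply]
      subst hi'
      exact h4
    have h6 := (hcomp a y).1 h5
    have h7 := Ideal.mem_map_of_mem ((U : Scheme.{u}).presheaf.map
      (homOfLE (le_top : (⊤ : (U : Scheme.{u}).Opens) ≤ ⊤)).op).hom (RingHom.mem_ker.2 h6)
    have h8 : (U : Scheme.{u}).presheaf.map
      (homOfLE (le_top : (⊤ : (U : Scheme.{u}).Opens) ≤ ⊤)).op = 𝟙 _ := by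
      rw [← (U : Scheme.{u}).presheaf.map_id]; rfl
    have h9 : ((U : Scheme.{u}).presheaf.map
      (homOfLE (le_top : (⊤ : (U : Scheme.{u}).Opens) ≤ ⊤)).op).hom
        ((U.ι.appLE U ⊤ hι).hom y) = (U.ι.appLE U ⊤ hι).hom y := by
      rw [h8]; rfl
    rw [h9] at h7
    exact h7
  refine ⟨⟨hw⟩, ⟨PullbackCone.IsLimit.mk _ (fun s => IsClosedImmersion.lift i' s.fst
    (key _ _ _ s.condition).2) (fun s => ?_) (fun s => ?_) (fun s m hm1 hm2 => ?_)⟩⟩
  · exact IsClosedImmersion.lift_fac _ _ _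
  · rw [← hi', IsClosedImmersion.lift_fac_assoc]
    exact (key _ _ _ s.condition).1
  · rw [← cancel_mono i', hm1, IsClosedImmersion.lift_fac]

/-- A point where `sec hG t` meets the zero section is a zero of `t`. -/
theorem zeroIdeal_le (hG : Coh.IsQCoh G) (t : G ⟶ Coh.structureModule Z) (z : Z)
    (hz : sec hG t z ∈ Set.range (zero hG)) :
    zeroIdeal t z ≤ IsLocalRing.maximalIdeal (Z.presheaf.stalk z) := by
  obtain ⟨w, hw⟩ := hz
  have h1 := congrArg (toX hG) hw
  rw [← Scheme.Hom.comp_apply, ← Scheme.Hom.comp_apply, zero_toX, sec_toX] at h1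
  change w = z at h1
  subst h1
  obtain ⟨p, hp1, hp2⟩ := Scheme.Pullback.exists_preimage_pullback w w hw.symm
  let b : Spec ((pullback (sec hG t) (zero hG)).residueField p) ⟶ Z :=
    (pullback (sec hG t) (zero hG)).fromSpecResidueField p ≫ pullback.fst _ _
  have hb2 : b = (pullback (sec hG t) (zero hG)).fromSpecResidueField p ≫ pullback.snd _ _ := by
    have : pullback.fst (sec hG t) (zero hG) = pullback.snd (sec hG t) (zero hG) := by
      have := congrArg (· ≫ toX hG) (pullback.condition (f := sec hG t) (g := zero hG))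
      simpa only [Category.assoc, sec_toX, zero_toX, Category.comp_id] using this
    rw [← this]
  have hb : b ≫ sec hG t = b ≫ zero hG := by
    conv_rhs => rw [hb2]
    simp only [b, Category.assoc, pullback.condition]
  have hbw : ∀ x, b x = w := by
    intro x
    rw [Scheme.Hom.comp_apply, Scheme.fromSpecResidueField_apply, hp1]
  rw [zeroIdeal, Ideal.span_le]
  rintro _ ⟨U, hU, s, rfl⟩
  obtain ⟨V, hV, hwV, hVU'⟩ := exists_isAffineOpen_mem_and_subset hU
  have hVU : V ≤ U := hVU'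
  have h1 : (Z.presheaf.germ U w hU).hom (val t U s) =
      (Z.presheaf.germ V w hwV).hom (val t V (G.presheaf.map (homOfLE hVU).op s)) := by
    rw [← val_res t hVU s]
    exact (TopCat.Presheaf.germ_res_apply Z.presheaf (homOfLE hVU) w hwV _).symm
  change (Z.presheaf.germ U w hU).hom (val t U s) ∈ _
  rw [h1, SetLike.mem_coe, IsLocalRing.mem_maximalIdeal, mem_nonunits_iff]
  intro hu
  have h2 : w ∈ Z.basicOpen (val t V (G.presheaf.map (homOfLE hVU).op s)) :=
    (Scheme.mem_basicOpen _ _ _ hwV).2 hu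
  have h3 := app_eq_zero_of_comp_sec hG t b hb hV (G.presheaf.map (homOfLE hVU).op s)
  let x : Spec ((pullback (sec hG t) (zero hG)).residueField p) := IsLocalRing.closedPoint _
  have h4 : x ∈ b ⁻¹ᵁ Z.basicOpen (val t V (G.presheaf.map (homOfLE hVU).op s)) := by
    rw [Scheme.Hom.mem_preimage, hbw]; exact h2
  rw [Scheme.Hom.preimage_basicOpen] at h4
  rw [show (b.app V).hom (val t V (G.presheaf.map (homOfLE hVU).op s)) = 0 from h3,
    Scheme.basicOpen_zero] at h4
  exact h4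

/-- Sections of `Z` near `z` which locally lie in the ideal generated by `t`. -/
theorem exists_of_mem_zeroIdeal (t : G ⟶ Coh.structureModule Z) (z : Z)
    (b : Z.presheaf.stalk z) (hb : b ∈ zeroIdeal t z) :
    ∃ (W : Z.Opens) (hz : z ∈ W) (c : Γ(Z, W)), (Z.presheaf.germ W z hz).hom c = b ∧
      ∀ (V : Z.Opens) (h : V ≤ W), (Z.presheaf.map (homOfLE h).op).hom c ∈ valIdeal t V := by
  refine Submodule.span_induction (p := fun b _ => ∃ (W : Z.Opens) (hz : z ∈ W) (c : Γ(Z, W)),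
    (Z.presheaf.germ W z hz).hom c = b ∧
      ∀ (V : Z.Opens) (h : V ≤ W), (Z.presheaf.map (homOfLE h).op).hom c ∈ valIdeal t V)
    ?_ ?_ ?_ ?_ hb
  · rintro _ ⟨U, hU, s, rfl⟩
    refine ⟨U, hU, val t U s, rfl, fun V h => ?_⟩
    rw [val_res]
    exact Ideal.subset_span ⟨_, rfl⟩
  · exact ⟨⊤, trivial, 0, map_zero _, fun V h => by rw [map_zero]; exact zero_mem _⟩
  · rintro _ _ - - ⟨W₁, h₁, c₁, rfl, H₁⟩ ⟨W₂, h₂, c₂, rfl, H₂⟩
    refine ⟨W₁ ⊓ W₂, ⟨h₁, h₂⟩, (Z.presheaf.map (homOfLE inf_le_left).op).hom c₁ +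
      (Z.presheaf.map (homOfLE inf_le_right).op).hom c₂, ?_, fun V h => ?_⟩
    · rw [map_add]
      congr 1
      · exact TopCat.Presheaf.germ_res_apply Z.presheaf (homOfLE inf_le_left) z ⟨h₁, h₂⟩ _
      · exact TopCat.Presheaf.germ_res_apply Z.presheaf (homOfLE inf_le_right) z ⟨h₁, h₂⟩ _
    · rw [map_add]
      refine add_mem ?_ ?_
      · have := H₁ V (h.trans inf_le_left)
        rwa [← CommRingCat.comp_apply, ← Functor.map_comp]
      · have := H₂ V (h.trans inf_le_right)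
        rwa [← CommRingCat.comp_apply, ← Functor.map_comp]
  · rintro r _ - ⟨W, hz, c, rfl, H⟩
    obtain ⟨W', hz', r', rfl⟩ := TopCat.Presheaf.exists_germ_eq Z.presheaf r
    refine ⟨W' ⊓ W, ⟨hz', hz⟩, (Z.presheaf.map (homOfLE inf_le_left).op).hom r' *
      (Z.presheaf.map (homOfLE inf_le_right).op).hom c, ?_, fun V h => ?_⟩
    · rw [map_mul, smul_eq_mul]
      congr 1
      · exact TopCat.Presheaf.germ_res_apply Z.presheaf (homOfLE inf_le_left) z ⟨hz', hz⟩ _
      · exact TopCat.Presheaf.germ_res_apply Z.presheaf (homOfLE inf_le_right) z ⟨hz', hz⟩ _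
    · rw [map_mul]
      refine Ideal.mul_mem_left _ _ ?_
      have := H V (h.trans inf_le_right)
      rwa [← CommRingCat.comp_apply, ← Functor.map_comp]

/-- At a closed point `z` where the values of `t` generate the maximal ideal of the (Noetherian) local ring there is an
affine open over which the values of `t` generate the ideal of `z`. -/
theorem exists_affine [IsLocallyNoetherian Z] (t : G ⟶ Coh.structureModule Z)
    {K : Type u} [Field K] (i : Spec (CommRingCat.of K) ⟶ Z) [IsClosedImmersion i] (z : Z)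
    (hiz : ∀ x, i x = z) (hz : zeroIdeal t z = IsLocalRing.maximalIdeal (Z.presheaf.stalk z)) :
    ∃ (U : Z.Opens) (hU : IsAffineOpen U), z ∈ U ∧ i.ker.ideal ⟨U, hU⟩ = valIdeal t U := by
  classical
  obtain ⟨_, ⟨U₀, hU₀, rfl⟩, hzU₀, -⟩ :=
    Z.isBasis_affineOpens.exists_subset_of_mem_open (Set.mem_univ z) isOpen_univ
  have hnoe : IsNoetherianRing Γ(Z, U₀) := IsLocallyNoetherian.component_noetherian ⟨U₀, hU₀⟩
  -- a section vanishing in the residue field at `z` vanishes on `Spec K`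
  have hvan : ∀ (V : Z.Opens) (hV : z ∈ V) (y : Γ(Z, V)),
      (i.app V).hom y = 0 ↔ (Z.presheaf.germ V z hV).hom y ∈
        IsLocalRing.maximalIdeal (Z.presheaf.stalk z) := by
    intro V hV y
    let x₀ : Spec (CommRingCat.of K) := IsLocalRing.closedPoint K
    have hx₀ : i x₀ ∈ V := by rw [hiz]; exact hV
    rw [IsLocalRing.mem_maximalIdeal, mem_nonunits_iff, ← Scheme.mem_basicOpen _ _ _ hV]
    constructor
    · intro h0 hmem
      have h4 : x₀ ∈ i ⁻¹ᵁ Z.basicOpen y := by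
        rw [Scheme.Hom.mem_preimage, hiz]; exact hmem
      rw [Scheme.Hom.preimage_basicOpen, h0, Scheme.basicOpen_zero] at h4
      exact h4
    · intro hn
      by_contra hne
      apply hn
      have h5 : x₀ ∈ (Spec (CommRingCat.of K)).basicOpen ((i.app V).hom y) := by
        have h6 : (Spec (CommRingCat.of K)).basicOpen ((i.app V).hom y) ≠ ⊥ := fun h =>
          hne ((basicOpen_eq_bot_iff _).1 h)
        obtain ⟨x, hx⟩ := (Opens.ne_bot_iff_nonempty _).1 h6
        have : Subsingleton (Spec (CommRingCat.of K)) :=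
          inferInstanceAs (Subsingleton (PrimeSpectrum K))
        rwa [Subsingleton.elim x₀ x]
      rw [← Scheme.Hom.preimage_basicOpen, Scheme.Hom.mem_preimage, hiz] at h5
      exact h5
  obtain ⟨S, hS⟩ := (isNoetherianRing_iff_ideal_fg _).1 hnoe (i.ker.ideal ⟨U₀, hU₀⟩)
  -- each generator is locally in the ideal of the values
  have hgen : ∀ a ∈ S, ∃ (W : Z.Opens) (_ : z ∈ W) (hW : W ≤ U₀), ∀ (V : Z.Opens) (h : V ≤ W),
      (Z.presheaf.map (homOfLE (h.trans hW)).op).hom a ∈ valIdeal t V := by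
    intro a ha
    have h1 : a ∈ i.ker.ideal ⟨U₀, hU₀⟩ := by rw [← hS]; exact Ideal.subset_span ha
    rw [Scheme.Hom.ker_apply, RingHom.mem_ker] at h1
    have h2 := (hvan U₀ hzU₀ a).1 h1
    rw [← hz] at h2
    obtain ⟨W, hzW, c, hc, H⟩ := exists_of_mem_zeroIdeal t z _ h2
    obtain ⟨W', hzW', iW, iU, hW'⟩ := TopCat.Presheaf.germ_eq Z.presheaf z hzW hzU₀ c a hc
    refine ⟨W', hzW', iU.le, fun V h => ?_⟩
    have h3 := H V (h.trans iW.le)
    have h4 : (Z.presheaf.map (homOfLE (h.trans iU.le)).op).hom a =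
        (Z.presheaf.map (homOfLE (h.trans iW.le)).op).hom c := by
      have e1 : (homOfLE (h.trans iU.le)).op = iU.op ≫ (homOfLE h).op := rfl
      have e2 : (homOfLE (h.trans iW.le)).op = iW.op ≫ (homOfLE h).op := rfl
      rw [e1, e2, Functor.map_comp, Functor.map_comp, CommRingCat.comp_apply,
        CommRingCat.comp_apply]
      exact congrArg _ hW'.symm
    rw [h4]; exact h3
  choose! W hzW hWU hW using hgen
  have hmem : z ∈ U₀ ⊓ S.inf W := by
    refine ⟨hzU₀, ?_⟩
    change z ∈ ((S.inf W : Z.Opens) : Set Z)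
    rw [Opens.coe_finset_inf, Finset.inf_set_eq_iInter]
    exact Set.mem_iInter₂.2 fun a ha => hzW a ha
  obtain ⟨V, hV, hzV, hVW'⟩ := exists_isAffineOpen_mem_and_subset hmem
  have hVW : V ≤ U₀ ⊓ S.inf W := hVW'
  refine ⟨V, hV, hzV, le_antisymm ?_ ?_⟩
  · rw [← IdealSheafData.map_ideal i.ker (U := ⟨V, hV⟩) (V := ⟨U₀, hU₀⟩) (hVW.trans inf_le_left),
      ← hS, Ideal.map_span, Ideal.span_le]
    rintro _ ⟨a, ha, rfl⟩
    exact hW a ha V ((hVW.trans inf_le_right).trans (Finset.inf_le ha))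
  · rw [valIdeal, Ideal.span_le]
    rintro _ ⟨m, rfl⟩
    rw [SetLike.mem_coe, Scheme.Hom.ker_apply, RingHom.mem_ker]
    refine (hvan V hzV _).2 ?_
    rw [← hz]
    exact Ideal.subset_span ⟨V, hzV, m, rfl⟩

/-- Near a simple zero the point is the scheme theoretic inverse image of the zero section. -/
theorem exists_isPullback [IsLocallyNoetherian Z] (hG : Coh.IsQCoh G)
    (t : G ⟶ Coh.structureModule Z) {K : Type u} [Field K] (i : Spec (CommRingCat.of K) ⟶ Z)
    [IsClosedImmersion i] (z : Z) (hiz : ∀ x, i x = z)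
    (hz : zeroIdeal t z = IsLocalRing.maximalIdeal (Z.presheaf.stalk z)) :
    ∃ (U : Z.Opens) (_ : IsAffineOpen U) (_ : z ∈ U) (i' : Spec (CommRingCat.of K) ⟶ U),
      i' ≫ U.ι = i ∧ IsPullback i' i (U.ι ≫ sec hG t) (zero hG) := by
  obtain ⟨U, hU, hzU, H⟩ := exists_affine t i z hiz hz
  have hr : Set.range i ⊆ Set.range U.ι := by
    rintro _ ⟨x, rfl⟩
    rw [Scheme.Opens.range_ι, hiz]
    exact hzU
  exact ⟨U, hU, hzU, IsOpenImmersion.lift U.ι i hr, IsOpenImmersion.lift_fac _ _ _,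
    isPullback_sec hG t i hU _ (IsOpenImmersion.lift_fac _ _ _) H⟩

/-- Off the zeros the section does not meet the zero section. -/
theorem notMem_range (hG : Coh.IsQCoh G) (t : G ⟶ Coh.structureModule Z) (z : Z)
    (hz : zeroIdeal t z = ⊤) : sec hG t z ∉ Set.range (zero hG) := fun h =>
  (IsLocalRing.maximalIdeal.isMaximal (Z.presheaf.stalk z)).ne_top
    (top_le_iff.1 (hz.symm.le.trans (zeroIdeal_le hG t z h)))

end Groth.Agent.Vancyc.H691.ZeroSch
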