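import Groth.Agent.Vancyc.H691.GBConn
import Groth.Agent.Vancyc.H158.BridgeTR
import Groth.Agent.Vancyc.H684.B1Main

/-!
# (B1) in the form used by `GBConn`
-/

set_option autoImplicit false
universe u

open CategoryTheory CategoryTheory.Limits AlgebraicGeometry Opposite TopologicalSpace

namespace Groth.Agent.Vancyc.H691.B1Use

open Groth.Agent.Vancyc.H120.DiagInst

theorem b1 (k : Type u) [Field k] [IsAlgClosed k] {Y : Scheme.{u}}
    (a : Y ⟶ Spec (CommRingCat.of k)) [IsProper a] (d : ℕ) [SmoothOfRelativeDimension d a]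
    [ConnectedSpace Y] (ℓ : ℕ) (hℓ : ℓ.Prime) (hk : (ℓ : k) ≠ 0) :
    GBForm.B1 (dg a) (GBConn.Sl a) d ℓ := by
  obtain ⟨e, he⟩ := H158.BridgeTR.to_forget (H158.B1Wrap.to_hc (H684.B1Main.main k a d ℓ hℓ hk))
  exact ⟨e, fun N O hO c t s ⟨x, h1, h2⟩ h => he N O hO c t x s h1 h2 h⟩

end Groth.Agent.Vancyc.H691.B1Use
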