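import Groth.Agent.Vancyc.H691.Homot
import Groth.Agent.Vancyc.H120.DiagInst
import Groth.Agent.Vancyc.H327.Euler

/-!
# The self-intersection formula for the diagonal

`q : Y ⟶ Spec k` smooth of relative dimension `m`, separated: the restriction to `Y` of the class of the diagonal is the
Euler class of the conormal module of the diagonal, i.e. of `Omega.sheaf q`.
-/

set_option autoImplicit false
universe u

open CategoryTheory CategoryTheory.Limits AlgebraicGeometry Opposite TopologicalSpace

namespace Groth.Agent.Vancyc.H691.B2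

open Groth.Agent.Vancyc.H327 Groth.Agent.Vancyc.H691.Squares Groth.Agent.Vancyc.H691.SpecFib
open Groth.Agent.Vancyc.H691.Homot Groth.Agent.Vancyc.H120 Groth.Agent.Vancyc.H120.DefSp
open Groth.Agent.Vancyc.H120.DiagInst Groth.Agent.CohqB.AlgSym
open Groth.Agent.Sga4h.H13 (Aff origin)

section

variable {Z X : Scheme.{u}} (i : Z ⟶ X) [IsClosedImmersion i] {k : Type u} [Field k]
  (p : X ⟶ Spec (CommRingCat.of k)) {m n : ℕ}

/-- B2 from the four fundamental classes. -/
theorem sint_eq_of [IsLocallyNoetherian X] [CompactSpace X] [IsLocallyNoetherian (W i.ker)]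
    [CompactSpace (W i.ker)] [IsLocallyNoetherian (W0 i p)] [CompactSpace (W0 i p)]
    [IsClosedImmersion (s0 i p)] [IsLocallyNoetherian Z] [CompactSpace Z]
    {OX : X.Opens} (hX : LCI p i OX m n)
    {OW : (W i.ker).Opens} (hW : LCI (toX i.ker ≫ p) (ζ i p) OW m n)
    {O0 : (W0 i p).Opens} {x0 : W0 i p ⟶ Spec (CommRingCat.of k)} (h0 : LCI x0 (s0 i p) O0 m n)
    (hx0 : j0 i p ≫ toX i.ker ≫ p = x0)
    (hN : Coh.IsQCoh (Omega.conormal i)) (h : FlatMod.IsFinLocFreeOfRank m (Omega.conormal i))
    (hn : (n : k) ≠ 0) (κ : HS (ZMod n) (H327.O0 k m) (2 * m)) :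
    sint hX κ = eul (i ≫ p) hN h hn κ := by
  have hu : IsUnit (n : k) := hn.isUnit
  have i1 := isLocallyNoetherian_V hN h
  have i2 := compactSpace_V hN
  have e1 : hpull (ZMod n) (sct i p 1) (2 * m) (sint hW κ) = sint hX κ :=
    sint_pull hW κ hX (by rw [← Category.assoc, one_toX, Category.id_comp])
      (isPullback_one' i p).flip
  have e0 : hpull (ZMod n) (sct i p 0) (2 * m) (sint hW κ) = sint h0 κ :=
    sint_pull hW κ h0 hx0 (isPullback_zero' i p).flip
  obtain ⟨f, hf, hf1, hf2, ρ, w⟩ := SpecFib.exists_isPullback i p hN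
  have e2 : hpull (ZMod n) (𝟙 Z) (2 * m) (sint (lci_zero hN (i ≫ p) h hn) κ) = sint h0 κ := by
    refine sint_pull (lci_zero hN (i ≫ p) h hn) κ h0 ?_ w
    rw [← Category.assoc, toV_toX, ← Category.assoc, hf1, Category.assoc, hx0]
  rw [hpull_id] at e2
  rw [← e1, hpull_sct_eq i p hu 1 0, e0, ← e2]
  rfl

end

/-- The complement of a closed immersion. -/
def cO {Z X : Scheme.{u}} (i : Z ⟶ X) [IsClosedImmersion i] : X.Opens where
  carrier := (Set.range i)ᶜ
  is_open' := i.isClosedEmbedding.isClosed_range.isOpen_compl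

theorem coe_cO {Z X : Scheme.{u}} (i : Z ⟶ X) [IsClosedImmersion i] :
    (cO i : Set X) = (Set.range i)ᶜ := rfl

section Diag

variable {k : Type u} [Field k] {Y : Scheme.{u}} (q : Y ⟶ Spec (CommRingCat.of k))

theorem isLocallyNoetherian_Y (m : ℕ) [SmoothOfRelativeDimension m q] :
    IsLocallyNoetherian Y := by
  have h1 : Smooth q := SmoothOfRelativeDimension.smooth m q
  exact LocallyOfFiniteType.isLocallyNoetherian q

theorem isLocallyNoetherian_prod (m : ℕ) [SmoothOfRelativeDimension m q] :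
    IsLocallyNoetherian (pullback q q) := by
  have h1 : SmoothOfRelativeDimension (m + m) (pp q) := DiagChart.smooth_base q m
  have h2 : Smooth (pp q) := SmoothOfRelativeDimension.smooth (m + m) _
  exact LocallyOfFiniteType.isLocallyNoetherian (pp q)

theorem compactSpace_prod [QuasiCompact q] : CompactSpace (pullback q q : Scheme.{u}) :=
  QuasiCompact.compactSpace_of_compactSpace (pp q)

theorem isLocallyNoetherian_W (m : ℕ) [SmoothOfRelativeDimension m q] [IsSeparated q] :
    IsLocallyNoetherian (W (dg q).ker) := by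
  have h1 := DiagInst.smooth_tW q m
  have h2 : Smooth (tW (dg q).ker (pp q)) := SmoothOfRelativeDimension.smooth (m + m) _
  have h3 : IsNoetherianRing (CommRingCat.of (Polynomial k)) :=
    inferInstanceAs (IsNoetherianRing (Polynomial k))
  exact LocallyOfFiniteType.isLocallyNoetherian (tW (dg q).ker (pp q))

theorem compactSpace_W [QuasiCompact q] : CompactSpace (W (dg q).ker) := by
  have := compactSpace_prod q
  exact QuasiCompact.compactSpace_of_compactSpace (toX (dg q).ker)

theorem isLocallyNoetherian_W0 (m : ℕ) [SmoothOfRelativeDimension m q] [IsSeparated q] :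
    IsLocallyNoetherian (W0 (dg q) (pp q)) := by
  have h1 := smooth_W0 q m
  have h2 : Smooth (pullback.snd (tW (dg q).ker (pp q)) (pt k 0)) :=
    SmoothOfRelativeDimension.smooth (m + m) _
  exact LocallyOfFiniteType.isLocallyNoetherian (pullback.snd (tW (dg q).ker (pp q)) (pt k 0))

theorem compactSpace_W0 [QuasiCompact q] : CompactSpace (W0 (dg q) (pp q)) := by
  have := compactSpace_W q
  have h1 : IsAffineHom (pt k 0) := inferInstance
  exact QuasiCompact.compactSpace_of_compactSpace (j0 (dg q) (pp q))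

/-- The class of the diagonal. -/
theorem lci_diag (m : ℕ) [SmoothOfRelativeDimension m q] [IsSeparated q] {n : ℕ}
    (hn : (n : k) ≠ 0) : LCI (pp q) (dg q) (cO (dg q)) m n := by
  have i1 : IsLocallyNoetherian (pullback q q) := isLocallyNoetherian_prod q m
  have h1 : SmoothOfRelativeDimension (m + m) (pp q) := DiagChart.smooth_base q m
  have h2 := smooth_dg_pp q m
  exact LCI.of_pair (pp q) (pp q) (𝟙 _) (Category.comp_id _) (dg q) m m hn (coe_cO _)

/-- **The self-intersection formula.** -/
theorem sint_diag {m n : ℕ} [SmoothOfRelativeDimension m q] [IsSeparated q] [QuasiCompact q]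
    [IsLocallyNoetherian (pullback q q)]
    [CompactSpace (pullback q q : Scheme.{u})] [IsLocallyNoetherian Y] [CompactSpace Y]
    {O : (pullback q q : Scheme.{u}).Opens} (hX : LCI (pp q) (dg q) O m n)
    (hN : Coh.IsQCoh (Omega.sheaf q)) (h : FlatMod.IsFinLocFreeOfRank m (Omega.sheaf q))
    (hn : (n : k) ≠ 0) (κ : HS (ZMod n) (H327.O0 k m) (2 * m)) :
    sint hX κ = eul q hN h hn κ := by
  have i2 : IsLocallyNoetherian (W (dg q).ker) := isLocallyNoetherian_W q m
  have i3 : CompactSpace (W (dg q).ker) := compactSpace_W q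
  have i4 : IsLocallyNoetherian (W0 (dg q) (pp q)) := isLocallyNoetherian_W0 q m
  have i5 : CompactSpace (W0 (dg q) (pp q)) := compactSpace_W0 q
  have h1 := DiagInst.smooth_tW q m
  have h2 := smooth_ζ_tW q m
  have h3 := smooth_W0 q m
  have h4 : SmoothOfRelativeDimension m
      (s0 (dg q) (pp q) ≫ pullback.snd (tW (dg q).ker (pp q)) (pt k 0)) := by
    rw [s0_snd]
    exact smooth_dg_pp q m
  have hW : LCI (toX (dg q).ker ≫ pp q) (ζ (dg q) (pp q)) (cO (ζ (dg q) (pp q))) m n :=
    LCI.of_pair (toX (dg q).ker ≫ pp q) (tW (dg q).ker (pp q)) _ (tW_C _ _)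
      (ζ (dg q) (pp q)) m m hn (coe_cO _)
  have h0 : LCI (pullback.snd (tW (dg q).ker (pp q)) (pt k 0)) (s0 (dg q) (pp q))
      (cO (s0 (dg q) (pp q))) m n :=
    LCI.of_pair _ (pullback.snd (tW (dg q).ker (pp q)) (pt k 0)) (𝟙 _) (Category.comp_id _)
      (s0 (dg q) (pp q)) m m hn (coe_cO _)
  exact (sint_eq_of (dg q) (pp q) hX hW h0 (j0_toX_pp q) hN h hn κ).trans
    (congrArg (fun x => eul x hN h hn κ) (dg_pp q))

end Diag

end Groth.Agent.Vancyc.H691.B2
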