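import Groth.Agent.Vancyc.H691.Homot

/-!
# Formal part of the self-intersection formula

Classes with supports on the deformation space `W`, on `X`, on the special fibre `W0` and on a scheme `V` with a map
`c : W0 ⟶ V`, compatible with the pull-backs: the restrictions to `Z` of the classes on `X` and on `V` agree.
-/

set_option autoImplicit false
universe u

open CategoryTheory CategoryTheory.Limits AlgebraicGeometry Opposite TopologicalSpace

namespace Groth.Agent.Vancyc.H691.B2Formal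

open Groth.Agent.Vancyc.H327 Groth.Agent.Vancyc.H691.Squares Groth.Agent.Vancyc.H691.SpecFib
open Groth.Agent.Vancyc.H691.Homot Groth.Agent.Vancyc.H120.DefSp

variable {Z X V : Scheme.{u}} (i : Z ⟶ X) {R : Type u} [CommRing R]
  (p : X ⟶ Spec (CommRingCat.of R)) {n : ℕ} (hn : IsUnit (n : R)) (q : ℕ)

include hn

theorem hpull_eq {OW : (W i.ker).Opens} {OX : X.Opens} {O0 : (W0 i p).Opens} {OV : V.Opens}
    (cW : HS (ZMod n) OW q) (cX : HS (ZMod n) OX q) (c0 : HS (ZMod n) O0 q)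
    (cV : HS (ZMod n) OV q) (h1 : OX ≤ one i.ker ⁻¹ᵁ OW)
    (e1 : HS.pull (ZMod n) (one i.ker) h1 q cW = cX) (h0 : O0 ≤ j0 i p ⁻¹ᵁ OW)
    (e0 : HS.pull (ZMod n) (j0 i p) h0 q cW = c0) (c : W0 i p ⟶ V) (z : Z ⟶ V)
    (hz : s0 i p ≫ c = z) (hV : O0 ≤ c ⁻¹ᵁ OV) (eV : HS.pull (ZMod n) c hV q cV = c0) :
    hpull (ZMod n) i q (HS.forget (ZMod n) OX q cX) =
      hpull (ZMod n) z q (HS.forget (ZMod n) OV q cV) := by
  rw [← e1, HS.forget_pull, hpull_comp (ZMod n) i (one i.ker) _ rfl,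
    hpull_congr (ZMod n) (sct_one_ζ i p).symm, ← hpull_comp (ZMod n) (sct i p 1) (ζ i p) _ rfl,
    hpull_sct_eq i p hn 1 0, hpull_comp (ZMod n) (sct i p 0) (ζ i p) _ rfl,
    hpull_congr (ZMod n) (sct_zero_ζ i p), ← hpull_comp (ZMod n) (s0 i p) (j0 i p) _ rfl,
    ← HS.forget_pull (ZMod n) (j0 i p) h0, e0, ← eV, HS.forget_pull,
    hpull_comp (ZMod n) (s0 i p) c z hz]

end Groth.Agent.Vancyc.H691.B2Formal
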