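import Groth.Agent.Vancyc.H691.ConeRho
import Mathlib.AlgebraicGeometry.Morphisms.Separated

/-!
# The special fibre of the deformation to the normal cone maps to the normal bundle

Abstract version: `i : Z ⟶ X` a closed immersion, `q : W ⟶ X` affine, `τ` a function on `W`, non zero divisor, dividing the
pull back of the ideal of `Z`; `j : W₀ ⟶ W` a closed immersion killing `τ`, `s : Z ⟶ W₀` over `X` whose kernel is generated
by `τ` and the `a / τ`.  Then `s` is the inverse image of the zero section under a morphism `W₀ ⟶ V(conormal i)` over `Z`.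
-/

set_option autoImplicit false
universe u

open CategoryTheory Limits AlgebraicGeometry Opposite TopologicalSpace

namespace Groth.Agent.Vancyc.H691.ConeMain

open Groth.Agent.CohqB.AlgSys Groth.Agent.CohqB.AlgSym Groth.Agent.CohqB.AlgMod
open Groth.Agent.CohqB.QC2 Groth.Agent.Dix.IdealModSec Groth.Agent.Vancyc.H691.Cone
open Groth.Agent.Vancyc.H691.ConeRho

theorem iSup_affine (X : Scheme.{u}) : (⨆ U : X.affineOpens, U.1) = ⊤ := iSup_affineOpens_eq_top X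

theorem appLE_surjective {X Y : Scheme.{u}} (f : X ⟶ Y) {U : Y.Opens} {V : X.Opens} (e : V ≤ f ⁻¹ᵁ U)
    (h : V = f ⁻¹ᵁ U) (hs : Function.Surjective (f.app U)) :
    Function.Surjective (f.appLE U V e).hom := by
  subst h
  rw [← Scheme.Hom.app_eq_appLE]
  exact hs

theorem exists_isPullback {Z X W W₀ : Scheme.{u}} (i : Z ⟶ X) [IsClosedImmersion i] (q : W ⟶ X)
    [IsAffineHom q] (τ : Γ(W, ⊤)) (j : W₀ ⟶ W) [IsClosedImmersion j] (s : Z ⟶ W₀)
    (hs : s ≫ j ≫ q = i) (hN : Coh.IsQCoh (Omega.conormal i)) (hr : IsReg q τ)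
    (hd : Div q τ i.ker) (hj : j.appTop.hom τ = 0)
    (h0 : ∀ (U : X.affineOpens) (y : Γ(W, q ⁻¹ᵁ U.1)) (a : Γ(X, U.1)), a ∈ i.ker.ideal U →
      rs τ (q ⁻¹ᵁ U.1) * y = (q.app U.1).hom a →
      ((s ≫ j).appLE (q ⁻¹ᵁ U.1) (i ⁻¹ᵁ U.1)
        (le_preimage i q (s ≫ j) (by rw [Category.assoc, hs]) U.1)).hom y = 0)
    (hgen : ∀ (U : X.affineOpens) (p : Γ(W, q ⁻¹ᵁ U.1)),
      ((s ≫ j).appLE (q ⁻¹ᵁ U.1) (i ⁻¹ᵁ U.1)
        (le_preimage i q (s ≫ j) (by rw [Category.assoc, hs]) U.1)).hom p = 0 →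
      p ∈ Ideal.span ({rs τ (q ⁻¹ᵁ U.1)} ∪
        {y | ∃ a ∈ i.ker.ideal U, rs τ (q ⁻¹ᵁ U.1) * y = (q.app U.1).hom a})) :
    ∃ (h : W₀ ⟶ Z) (_ : IsAffineHom h) (_ : h ≫ i = j ≫ q) (_ : s ≫ h = 𝟙 Z)
      (ρ : Omega.conormal i ⟶ Oalg h), IsPullback s (𝟙 Z) (toV hN h ρ) (zero hN) := by
  -- `j` kills the restrictions of `τ`
  have hjr : ∀ V : W.Opens, (j.app V).hom (rs τ V) = 0 := by
    intro V
    have h1 := j.naturality (homOfLE (le_top : V ≤ ⊤)).op
    have h2 : (j.app V).hom (rs τ V) = (W₀.presheaf.map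
      ((Opens.map j.base).map (homOfLE (le_top : V ≤ ⊤))).op).hom (j.appTop.hom τ) :=
      congr($(h1) τ)
    rw [h2, hj]
    exact map_zero _
  have hker : i.ker ≤ (j ≫ q).ker := by
    rw [Scheme.IdealSheafData.le_def]
    intro U a ha
    rw [Scheme.Hom.ker_apply]
    obtain ⟨y, hy⟩ := hd U a ha
    change ((j ≫ q).app U.1).hom a = 0
    rw [Scheme.Hom.comp_app]
    change (j.app (q ⁻¹ᵁ U.1)).hom ((q.app U.1).hom a) = 0
    rw [← hy, map_mul, hjr, zero_mul]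
  let h : W₀ ⟶ Z := IsClosedImmersion.lift i (j ≫ q) hker
  have hh : h ≫ i = j ≫ q := IsClosedImmersion.lift_fac _ _ _
  have hsh : s ≫ h = 𝟙 Z := by
    rw [← cancel_mono i, Category.assoc, hh, hs, Category.id_comp]
  have haff : IsAffineHom h := by
    have : IsAffineHom (h ≫ i) := by rw [hh]; infer_instance
    exact IsAffineHom.of_comp h i
  have hsi : s ≫ h ≫ i = i := by rw [hh, hs]
  refine ⟨h, haff, hh, hsh, adj i h (rho hr hd ≫ Omap (h ≫ i) q j hh.symm), ?_⟩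
  have hsj : (s ≫ j) ≫ q = i := by rw [Category.assoc, hs]
  refine isPullback_zero_adj i h hN _ s hsh hsi ?_ (fun U : X.affineOpens => U.1) (fun U => U.2)
    (iSup_affine X) ?_
  · rw [Category.assoc, Omap_comp]
    apply hom_ext_affine
    intro U hU x
    refine (toFun i U).injective ?_
    exact h0 ⟨U, hU⟩ (toFun q U ((rho hr hd).app U x)) _ (idealModι_app_mem i.ker ⟨U, hU⟩ x)
      (mul_rho hr hd U x)
  · intro U y hy
    -- lift `y` to `W`
    have hle : (h ≫ i) ⁻¹ᵁ U.1 ≤ j ⁻¹ᵁ (q ⁻¹ᵁ U.1) := le_preimage (h ≫ i) q j hh.symm U.1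
    have hsurj : Function.Surjective (j.appLE (q ⁻¹ᵁ U.1) ((h ≫ i) ⁻¹ᵁ U.1) hle).hom := by
      refine appLE_surjective j hle ?_ (j.app_surjective (q ⁻¹ᵁ U.1) (U.2.preimage q))
      rw [hh]
      rfl
    obtain ⟨p, rfl⟩ := hsurj y
    have hp := hgen U p (by
      have e1 := Scheme.Hom.appLE_comp_appLE s j (q ⁻¹ᵁ U.1) ((h ≫ i) ⁻¹ᵁ U.1) (i ⁻¹ᵁ U.1) hle
        (le_preimage i (h ≫ i) s hsi U.1)
      exact (congr($(e1.symm).hom p)).trans hy)
    have hle2 : Ideal.span ({rs τ (q ⁻¹ᵁ U.1)} ∪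
        {y | ∃ a ∈ i.ker.ideal U, rs τ (q ⁻¹ᵁ U.1) * y = (q.app U.1).hom a}) ≤
        (Ideal.span (Set.range fun m : Γ(ClSub.idealMod i.ker, U.1) => toFun (h ≫ i) U.1
          ((rho hr hd ≫ Omap (h ≫ i) q j hh.symm).app U.1 m))).comap
          (j.appLE (q ⁻¹ᵁ U.1) ((h ≫ i) ⁻¹ᵁ U.1) hle).hom := by
      rw [Ideal.span_le]
      rintro z (hz | ⟨a, ha, hz⟩)
      · have e2 : (j.appLE (q ⁻¹ᵁ U.1) ((h ≫ i) ⁻¹ᵁ U.1) hle).hom z = 0 := by
          rw [Set.mem_singleton_iff.1 hz]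
          change (W₀.presheaf.map (homOfLE hle).op).hom ((j.app (q ⁻¹ᵁ U.1)).hom
            (rs τ (q ⁻¹ᵁ U.1))) = 0
          rw [hjr]
          exact map_zero _
        refine Ideal.mem_comap.2 ?_
        rw [e2]
        exact Ideal.zero_mem _
      · obtain ⟨x, hx⟩ := exists_of_mem i.ker U a ha
        have e3 : z = toFun q U.1 ((rho hr hd).app U.1 x) := by
          have e4 := mul_rho hr hd U.1 x
          rw [hx] at e4
          rw [← sub_eq_zero]
          apply hr U.1 U.2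
          rw [mul_sub, hz, e4, sub_self]
        refine Ideal.subset_span ⟨x, ?_⟩
        rw [e3]
        rfl
    exact hle2 hp

end Groth.Agent.Vancyc.H691.ConeMain
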