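import Groth.Agent.Vancyc.H691.Cone
import Groth.Agent.Dix.IdealModSec
import Groth.Agent.CohqB.AlgMod

/-!
# Dividing the equations of a closed subscheme by a parameter

`q : W ⟶ X` affine, `τ` a global function on `W` which is a non zero divisor, `I` an ideal sheaf of `X` whose pull back is
divisible by `τ`.  Then `a ↦ a / τ` is a morphism `idealMod I ⟶ q_* O_W` of `O_X`-modules.
-/

set_option autoImplicit false
universe u

open CategoryTheory Limits AlgebraicGeometry Opposite TopologicalSpace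

namespace Groth.Agent.Vancyc.H691.ConeRho

open Groth.Agent.CohqB.AlgSys Groth.Agent.CohqB.AlgSym Groth.Agent.CohqB.AlgMod
open Groth.Agent.CohqB.QC2 Groth.Agent.Dix.IdealModSec Groth.Agent.Vancyc.H691.Cone

variable {X W : Scheme.{u}} (q : W ⟶ X) (τ : Γ(W, ⊤))

/-- Restriction of a global function. -/
noncomputable abbrev rs (V : W.Opens) : Γ(W, V) :=
  (W.presheaf.map (homOfLE (le_top : V ≤ ⊤)).op).hom τ

theorem map_rs {V V' : W.Opens} (i : V ⟶ V') : (W.presheaf.map i.op).hom (rs τ V') = rs τ V := by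
  have h := W.presheaf.map_comp (homOfLE (le_top : V' ≤ ⊤)).op i.op
  exact congr($(h.symm).hom τ)

/-- Multiplication by `τ`. -/
noncomputable def mulMap : Oalg q ⟶ Oalg q :=
  ⟨PresheafOfModules.homMk
    { app := fun U => AddCommGrpCat.ofHom
        (AddMonoidHom.mulLeft (rs τ (q ⁻¹ᵁ U.unop)) : Γ(W, q ⁻¹ᵁ U.unop) →+ Γ(W, q ⁻¹ᵁ U.unop))
      naturality := fun U V i => by
        have h1 : ∀ s : Γ(W, q ⁻¹ᵁ U.unop), (W.presheaf.map ((Opens.map q.base).map i.unop).op).hom
            (rs τ (q ⁻¹ᵁ U.unop) * s) = rs τ (q ⁻¹ᵁ V.unop) *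
              (W.presheaf.map ((Opens.map q.base).map i.unop).op).hom s := by
          intro s
          rw [map_mul]
          congr 1
          exact map_rs τ ((Opens.map q.base).map i.unop)
        ext s
        exact (h1 s).symm }
    (fun U r s => mul_left_comm (rs τ (q ⁻¹ᵁ U.unop)) ((q.app U.unop).hom r) s)⟩

theorem mulMap_app (U : X.Opens) (s : Γ(Oalg q, U)) :
    toFun q U ((mulMap q τ).app U s) = rs τ (q ⁻¹ᵁ U) * toFun q U s := rfl

/-- `τ` is a non zero divisor over affine opens. -/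
def IsReg : Prop := ∀ U : X.Opens, IsAffineOpen U → ∀ y : Γ(W, q ⁻¹ᵁ U),
  rs τ (q ⁻¹ᵁ U) * y = 0 → y = 0

variable {q τ}

theorem mono_mulMap (h : IsReg q τ) : Mono (mulMap q τ) := by
  apply mono_of_injective
  intro U
  rw [injective_iff_map_eq_zero]
  intro s hs
  apply section_ext (Oalg q) (fun V : {V : X.Opens // IsAffineOpen V ∧ V ≤ U} => V.1)
    (fun V => V.2.2) (le_iSup_affine U)
  intro V
  rw [map_zero]
  have h1 : (mulMap q τ).app V.1 (res (Oalg q) V.2.2 s) = 0 := by
    rw [app_res, hs, map_zero]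
  exact (toFun q V.1).injective (h V.1 V.2.1 _ h1)

variable (q τ) (I : X.IdealSheafData)

/-- The pull back of the ideal is divisible by `τ`. -/
def Div : Prop := ∀ (U : X.affineOpens) (a : Γ(X, U.1)), a ∈ I.ideal U →
  ∃ y : Γ(W, q ⁻¹ᵁ U.1), rs τ (q ⁻¹ᵁ U.1) * y = (q.app U.1).hom a

/-- The inclusion of the ideal, as a map to `q_* O_W`. -/
noncomputable abbrev inc : ClSub.idealMod I ⟶ Oalg q := ClSub.idealModι I ≫ ClSub.unitToPush q

variable {q τ I}

theorem inc_app (U : X.Opens) (x : Γ(ClSub.idealMod I, U)) :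
    toFun q U ((inc q I).app U x) = (q.app U).hom ((ClSub.idealModι I).app U x : Γ(X, U)) := rfl

theorem inc_comp (h : Div q τ I) : inc q I ≫ cokernel.π (mulMap q τ) = 0 := by
  apply hom_ext_affine
  intro U hU x
  obtain ⟨y, hy⟩ := h ⟨U, hU⟩ _ (idealModι_app_mem I ⟨U, hU⟩ x)
  have h1 : (inc q I).app U x = (mulMap q τ).app U ((toFun q U).symm y) := by
    apply (toFun q U).injective
    rw [mulMap_app, AddEquiv.apply_symm_apply, inc_app]
    exact hy.symm
  change (cokernel.π (mulMap q τ)).app U ((inc q I).app U x) = _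
  rw [h1]
  exact congr(($(cokernel.condition (mulMap q τ))).app U ((toFun q U).symm y))

/-- The quotient by `τ`. -/
noncomputable def rho (hr : IsReg q τ) (h : Div q τ I) : ClSub.idealMod I ⟶ Oalg q :=
  have := mono_mulMap hr
  Abelian.monoLift (mulMap q τ) (inc q I) (inc_comp h)

theorem rho_comp (hr : IsReg q τ) (h : Div q τ I) : rho hr h ≫ mulMap q τ = inc q I :=
  have := mono_mulMap hr
  Abelian.monoLift_comp (mulMap q τ) (inc q I) (inc_comp h)

theorem mul_rho (hr : IsReg q τ) (h : Div q τ I) (U : X.Opens) (x : Γ(ClSub.idealMod I, U)) :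
    rs τ (q ⁻¹ᵁ U) * toFun q U ((rho hr h).app U x) =
      (q.app U).hom ((ClSub.idealModι I).app U x : Γ(X, U)) := by
  rw [← inc_app, ← rho_comp hr h]
  rfl

end Groth.Agent.Vancyc.H691.ConeRho
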