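import Mathlib.Data.ZMod.Basic
import Mathlib.Data.Nat.Prime.Basic

/-!
# Integers equal modulo all powers of a prime, up to a bounded power
-/

set_option autoImplicit false

namespace Groth.Agent.Vancyc.H691.PadicEq

/-- If `ℓ^e A = ℓ^e B` in `ℤ/ℓ^N` for all `N`, then `A = B`. -/
theorem eq_of_forall {ℓ : ℕ} (hℓ : ℓ.Prime) (A B : ℤ) (e : ℕ)
    (h : ∀ N : ℕ, (ℓ : ZMod (ℓ ^ N)) ^ e * (A : ZMod (ℓ ^ N)) = (ℓ : ZMod (ℓ ^ N)) ^ e * (B : ZMod (ℓ ^ N))) :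
    A = B := by
  have h1 : ∀ N : ℕ, ((ℓ : ℤ) ^ N) ∣ (ℓ : ℤ) ^ e * (A - B) := by
    intro N
    have h2 : (((ℓ : ℤ) ^ e * (A - B) : ℤ) : ZMod (ℓ ^ N)) = 0 := by
      push_cast
      rw [mul_sub, h N, sub_self]
    have h3 := (ZMod.intCast_zmod_eq_zero_iff_dvd _ _).1 h2
    exact_mod_cast h3
  by_contra hAB
  have h4 : (ℓ : ℤ) ^ e * (A - B) ≠ 0 :=
    mul_ne_zero (pow_ne_zero _ (by exact_mod_cast hℓ.ne_zero)) (sub_ne_zero.2 hAB)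
  have h5 := Int.natAbs_dvd_natAbs.2 (h1 ((ℓ : ℤ) ^ e * (A - B)).natAbs)
  have h6 := Nat.le_of_dvd (Int.natAbs_pos.2 h4) h5
  rw [Int.natAbs_pow, Int.natAbs_natCast] at h6
  exact absurd h6 (not_le.2 (Nat.lt_pow_self hℓ.one_lt))

end Groth.Agent.Vancyc.H691.PadicEq
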