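import Groth.Agent.Vancyc.H327.Supp2
import Groth.Agent.Vancyc.H691.PadicEq
import Groth.Prelude.Def_Milnor

/-!
# Gauss–Bonnet: the formal end

`euler_eq`: from (B1) in the form of `H158.BridgeTR.to_forget` and, for every `N`, a class with supports in the diagonal
whose restriction to a slice has trace `1` and whose restriction to the diagonal has trace `C`, the Euler characteristic
is `C`.
-/

set_option autoImplicit false
universe u

open CategoryTheory CategoryTheory.Limits CategoryTheory.Abelian AlgebraicGeometry Opposite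

namespace Groth.Agent.Vancyc.H691.GBForm

open Groth.Agent.Vancyc

/-- (B1) for `δ : X ⟶ W` (the diagonal of `X ×_k X`) and a class `sl` of morphisms `X ⟶ W` (the slices). -/
def B1 {X W : Scheme.{u}} (δ : X ⟶ W) (sl : (X ⟶ W) → Prop) (d ℓ : ℕ) : Prop :=
    ∃ e : ℕ, ∀ (N : ℕ) (O : W.Opens) (_hO : (O : Set W) = (Set.range δ)ᶜ)
      (c : H327.HS (ZMod (ℓ ^ N)) O (2 * d))
      (t : H327.HC (ZMod (ℓ ^ N)) X (2 * d) →+ ZMod (ℓ ^ N)) (s : X ⟶ W), sl s →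
      t (H327.hpull (ZMod (ℓ ^ N)) s (2 * d)
        (H327.HS.forget (ZMod (ℓ ^ N)) O (2 * d) c)) = 1 →
      (ℓ : ZMod (ℓ ^ N)) ^ e * t (H327.hpull (ZMod (ℓ ^ N)) δ (2 * d)
          (H327.HS.forget (ZMod (ℓ ^ N)) O (2 * d) c)) =
        (ℓ : ZMod (ℓ ^ N)) ^ e * ((VanCyc.euler ℓ X (2 * d) : ℤ) : ZMod (ℓ ^ N))

theorem euler_eq {X W : Scheme.{u}} {δ : X ⟶ W} {sl : (X ⟶ W) → Prop} {d ℓ : ℕ} (hℓ : ℓ.Prime)
    (H : B1 δ sl d ℓ) (C : ℤ)
    (hcl : ∀ N : ℕ, ∃ (O : W.Opens) (c : H327.HS (ZMod (ℓ ^ N)) O (2 * d))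
      (t : H327.HC (ZMod (ℓ ^ N)) X (2 * d) →+ ZMod (ℓ ^ N)) (s : X ⟶ W),
      (O : Set W) = (Set.range δ)ᶜ ∧ sl s ∧
      t (H327.hpull (ZMod (ℓ ^ N)) s (2 * d) (H327.HS.forget _ O (2 * d) c)) = 1 ∧
      t (H327.hpull (ZMod (ℓ ^ N)) δ (2 * d) (H327.HS.forget _ O (2 * d) c)) =
        (C : ZMod (ℓ ^ N))) :
    VanCyc.euler ℓ X (2 * d) = C := by
  obtain ⟨e, he⟩ := H
  refine (PadicEq.eq_of_forall hℓ C _ e fun N => ?_).symm
  obtain ⟨O, c, t, s, hO, hs, h1, h2⟩ := hcl N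
  rw [← h2]
  exact he N O hO c t s hs h1

end Groth.Agent.Vancyc.H691.GBForm
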