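import Groth.Agent.Vancyc.H120.DiagInst
import Mathlib.AlgebraicGeometry.AlgClosed.Basic

/-!
# Slices of `Y ×_k Y`

`x` a rational point of `Y` over `k`: the slice `s = (x, id) : Y ⟶ Y ×_k Y` meets the diagonal transversally in `x`;
local equations of a rational point of a smooth scheme.
-/

set_option autoImplicit false
universe u

open CategoryTheory CategoryTheory.Limits AlgebraicGeometry

namespace Groth.Agent.Vancyc.H691.Slice

open Groth.Agent.Sga4h.H13 Groth.Agent.Vancyc.H120

variable {k : Type u} [Field k] {Y : Scheme.{u}} (a : Y ⟶ Spec (CommRingCat.of k))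

theorem exists_point [IsAlgClosed k] [LocallyOfFiniteType a] [Nonempty Y] :
    ∃ x : Spec (CommRingCat.of k) ⟶ Y, x ≫ a = 𝟙 _ := by
  have : JacobsonSpace Y := LocallyOfFiniteType.jacobsonSpace a
  obtain ⟨x, -, hx⟩ := nonempty_inter_closedPoints (X := Y) (Z := Set.univ) Set.univ_nonempty
    isClosed_univ.isLocallyClosed
  exact ⟨pointOfClosedPoint a x hx, pointOfClosedPoint_comp a x hx⟩

variable {a} {x : Spec (CommRingCat.of k) ⟶ Y} (hx : x ≫ a = 𝟙 _)

/-- The slice `{x} × Y`. -/
noncomputable def slice : Y ⟶ pullback a a :=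
  pullback.lift (a ≫ x) (𝟙 Y) (by rw [Category.assoc, hx, Category.comp_id, Category.id_comp])

@[reassoc (attr := simp)]
theorem slice_fst : slice hx ≫ pullback.fst a a = a ≫ x := pullback.lift_fst _ _ _

@[reassoc (attr := simp)]
theorem slice_snd : slice hx ≫ pullback.snd a a = 𝟙 Y := pullback.lift_snd _ _ _

include hx

/-- The slice meets the diagonal transversally in `x`. -/
theorem isPullback_slice : IsPullback x x (slice hx) (pullback.diagonal a) := by
  refine ⟨⟨?_⟩, ⟨PullbackCone.IsLimit.mk _ (fun s => s.fst ≫ a) (fun s => ?_) (fun s => ?_)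
    (fun s m hm1 hm2 => ?_)⟩⟩
  · apply pullback.hom_ext
    · rw [Category.assoc, slice_fst, ← Category.assoc, hx, Category.id_comp, Category.assoc,
        pullback.diagonal_fst, Category.comp_id]
    · rw [Category.assoc, slice_snd, Category.assoc, pullback.diagonal_snd]
  · have h1 := congrArg (· ≫ pullback.fst a a) s.condition
    have h2 := congrArg (· ≫ pullback.snd a a) s.condition
    simp only [Category.assoc, slice_fst, slice_snd, pullback.diagonal_fst,
      pullback.diagonal_snd, Category.comp_id] at h1 h2
    rw [Category.assoc, h1, h2]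
  · have h1 := congrArg (· ≫ pullback.fst a a) s.condition
    simp only [Category.assoc, slice_fst, pullback.diagonal_fst, Category.comp_id] at h1
    rw [Category.assoc, h1]
  · rw [← hm1, Category.assoc, hx, Category.comp_id]

/-- A rational point of a separated scheme is closed. -/
theorem isClosedImmersion_point [IsSeparated a] : IsClosedImmersion x :=
  isClosedImmersion_of_comp_eq_id a x hx

/-- Charts of a rational point of a smooth scheme. -/
theorem exists_chart_point (m : ℕ) [SmoothOfRelativeDimension m a] [IsClosedImmersion x]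
    (z : Spec (CommRingCat.of k)) :
    ∃ (U : Y.Opens) (Φ : U.toScheme ⟶ Aff k m), IsAffineOpen U ∧ x z ∈ U ∧
      Φ ≫ Aff.str k m = U.ι ≫ a ∧ (origin k m).ker.comap Φ = x.ker.comap U.ι ∧ Flat Φ := by
  have h1 : SmoothOfRelativeDimension (0 + m) a := by rwa [Nat.zero_add]
  have h2 : SmoothOfRelativeDimension 0 (x ≫ a) := by
    rw [hx]
    infer_instance
  exact PairChart.exists_chart a a (𝟙 _) (Category.comp_id _) x 0 m z

end Groth.Agent.Vancyc.H691.Slice
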