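import Groth.Agent.Vancyc.H691.B2
import Groth.Agent.Vancyc.H691.GBForm
import Groth.Agent.Vancyc.H691.Slice

/-!
# Gauss–Bonnet for a connected scheme

From (B1) [`H684.B1Main`, `H158.BridgeTR`], the self-intersection formula (`B2`) and the computation of the Euler class
of `Ω_Y` in terms of the class of a point (`hB3`, [B3-et] of `helper687`).
-/

set_option autoImplicit false
universe u

open CategoryTheory CategoryTheory.Limits AlgebraicGeometry Opposite TopologicalSpace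

namespace Groth.Agent.Vancyc.H691.GBConn

open Groth.Agent.Vancyc.H327 Groth.Agent.Vancyc.H120.DiagInst
open Groth.Agent.Vancyc.H691.B2 Groth.Agent.Vancyc.H691.Slice

variable {k : Type u} [Field k] {Y : Scheme.{u}} (a : Y ⟶ Spec (CommRingCat.of k))

/-- The class of a rational point. -/
theorem lci_point (m : ℕ) [SmoothOfRelativeDimension m a] {x : Spec (CommRingCat.of k) ⟶ Y}
    (hx : x ≫ a = 𝟙 _) [IsClosedImmersion x] {n : ℕ} (hn : (n : k) ≠ 0) :
    LCI a x (cO x) m n := by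
  have i1 : IsLocallyNoetherian Y := isLocallyNoetherian_Y a m
  have h1 : SmoothOfRelativeDimension (0 + m) a := by rwa [Nat.zero_add]
  have h2 : SmoothOfRelativeDimension 0 (x ≫ a) := by
    rw [hx]
    infer_instance
  exact LCI.of_pair a a (𝟙 _) (Category.comp_id _) x 0 m hn (coe_cO _)

/-- The slices. -/
def Sl (s : Y ⟶ pullback a a) : Prop :=
  ∃ x : Spec (CommRingCat.of k) ⟶ Y, s ≫ pullback.fst a a = a ≫ x ∧ s ≫ pullback.snd a a = 𝟙 Y

/-- Gauss–Bonnet for a connected scheme from (B1) and (B3). -/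
theorem euler_eq [IsAlgClosed k] [IsProper a] (m : ℕ) [SmoothOfRelativeDimension m a] [Nonempty Y]
    [IsLocallyNoetherian Y] [CompactSpace Y]
    (ℓ : ℕ) (hℓ : ℓ.Prime) (hℓk : (ℓ : k) ≠ 0) (C : ℤ)
    (hB1 : GBForm.B1 (dg a) (Sl a) m ℓ)
    (hN : Coh.IsQCoh (Omega.sheaf a)) (h : FlatMod.IsFinLocFreeOfRank m (Omega.sheaf a))
    (hB3 : ∀ (n : ℕ) (hn : (n : k) ≠ 0), ∃ κ : HS (ZMod n) (H327.O0 k m) (2 * m),
      ∀ (x : Spec (CommRingCat.of k) ⟶ Y) [IsClosedImmersion x] (_ : x ≫ a = 𝟙 _) {O : Y.Opens}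
        (L : LCI a x O m n), ∃ t : HC (ZMod n) Y (2 * m) →+ ZMod n,
          t (cyc L κ) = 1 ∧ t (eul a hN h hn κ) = (C : ZMod n)) :
    VanCyc.euler ℓ Y (2 * m) = C := by
  refine GBForm.euler_eq hℓ hB1 C fun N => ?_
  have i1 : IsLocallyNoetherian (pullback a a) := isLocallyNoetherian_prod a m
  have i2 : CompactSpace (pullback a a : Scheme.{u}) := compactSpace_prod a
  have hn : ((ℓ ^ N : ℕ) : k) ≠ 0 := by
    rw [Nat.cast_pow]
    exact pow_ne_zero _ hℓk
  obtain ⟨κ, hκ⟩ := hB3 (ℓ ^ N) hn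
  obtain ⟨x, hx⟩ := exists_point a
  have i3 : IsClosedImmersion x := isClosedImmersion_point hx
  let L := lci_point a m hx hn
  obtain ⟨t, ht1, ht2⟩ := hκ x hx L
  refine ⟨cO (dg a), fc (lci_diag a m hn) κ, t, slice hx, coe_cO _,
    ⟨x, slice_fst hx, slice_snd hx⟩, ?_, ?_⟩
  · refine Eq.trans (congrArg t ?_) ht1
    refine cyc_pull (lci_diag a m hn) κ L ?_ (isPullback_slice hx)
    rw [← Category.assoc, slice_fst, Category.assoc, hx, Category.comp_id]
  · refine Eq.trans (congrArg t ?_) ht2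
    exact sint_diag a (lci_diag a m hn) hN h hn κ

end Groth.Agent.Vancyc.H691.GBConn
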