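import Groth.Agent.Vancyc.H691.Squares
import Groth.Agent.Vancyc.H327.Supp2
import Groth.Agent.Sga4B.LineAff
import Groth.Agent.Etrest.ConstBasic
import Mathlib.Algebra.MvPolynomial.Equiv

/-!
# Homotopy invariance for the family `Z ×_R 𝔸¹ ⟶ Z`
-/

set_option autoImplicit false
universe u

open CategoryTheory CategoryTheory.Limits AlgebraicGeometry Opposite TopologicalSpace

namespace Groth.Agent.Vancyc.H691.Homot

open Groth.Agent.Vancyc.H327 Groth.Agent.Vancyc.H691.Squares Groth.Agent.Vancyc.H691.SpecFib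
open Groth.Agent.Sga4B Groth.Agent.Sga4B.AcycMor

/-- `Spec R[X] ⟶ Spec R` is a line. -/
theorem isLine_str (R : Type u) [CommRing R] : Line.IsLine (str R) := by
  let e : MvPolynomial (ULift.{u} (Fin 1)) R ≃ₐ[R] Polynomial R := MvPolynomial.uniqueAlgEquiv R _
  have he : (e : MvPolynomial (ULift.{u} (Fin 1)) R →+* Polynomial R).comp MvPolynomial.C =
      (Polynomial.C : R →+* Polynomial R) := by
    ext r : 1
    exact e.commutes r
  refine ⟨Spec.map (CommRingCat.ofHom (e : MvPolynomial (ULift.{u} (Fin 1)) R →+* Polynomial R)) ≫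
    (AffineSpace.SpecIso (ULift.{u} (Fin 1)) (CommRingCat.of R)).inv, ?_, ?_⟩
  · have : IsIso (CommRingCat.ofHom (e : MvPolynomial (ULift.{u} (Fin 1)) R →+* Polynomial R)) :=
      inferInstanceAs (IsIso (e.toRingEquiv.toCommRingCatIso).hom)
    infer_instance
  · rw [Category.assoc, AffineSpace.SpecIso_inv_over]
    change Spec.map (CommRingCat.ofHom _) ≫ Spec.map (CommRingCat.ofHom MvPolynomial.C) = _
    rw [← Spec.map_comp, ← CommRingCat.ofHom_comp, he]

section

variable {Z X : Scheme.{u}} (i : Z ⟶ X) {R : Type u} [CommRing R] (p : X ⟶ Spec (CommRingCat.of R))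
  {n : ℕ} (hn : IsUnit (n : R))

include hn in
theorem isUnit_of_base {T : Scheme.{u}} (g : T ⟶ Spec (CommRingCat.of R)) :
    IsUnit (n : Γ(T, ⊤)) := by
  have h1 := hn.map (g.appTop.hom.comp (Scheme.ΓSpecIso (CommRingCat.of R)).inv.hom)
  rwa [map_natCast] at h1

include hn in
theorem acyc_pr : Acyc n (pr i p) :=
  LineAff.acyc_line ((isLine_str R).pullback_fst (i ≫ p)) (isUnit_of_base hn (i ≫ p))

include hn in
/-- The sections of `Z ×_R 𝔸¹ ⟶ Z` induce the same map on cohomology. -/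
theorem hpull_sct_eq (c c' : R) (q : ℕ) (x : HC (ZMod n) (ZA i p) q) :
    hpull (ZMod n) (sct i p c) q x = hpull (ZMod n) (sct i p c') q x := by
  have hF : EtCoh.KilledBy n (EtCoh.const Z (ZMod n)) :=
    Groth.Agent.Etrest.ConstBasic.killedBy_const _ (ZMod n) n (fun a => by simp)
  obtain ⟨h0, h1⟩ := acyc_pr i p hn (EtCoh.const Z (ZMod n)) hF
  obtain ⟨y, rfl⟩ := (hpull_bijective_of_acyc (ZMod n) (pr i p) h0 (fun q hq => h1 q hq) q).2 x
  rw [hpull_comp (ZMod n) (sct i p c) (pr i p) (𝟙 Z) (sct_pr i p c),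
    hpull_comp (ZMod n) (sct i p c') (pr i p) (𝟙 Z) (sct_pr i p c')]

end

end Groth.Agent.Vancyc.H691.Homot
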