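import Groth.Agent.Lefpen.H721.OmegaSec
import Groth.Agent.Krr.H487.KerRank
import Mathlib.RingTheory.Smooth.StandardSmoothCotangent

/-!
# The rank of the sheaf of differentials of a smooth scheme over a field
-/

set_option autoImplicit false
universe u

open CategoryTheory Limits AlgebraicGeometry Opposite TopologicalSpace

namespace Groth.Agent.Vancyc.H691.OmegaRank

open Groth.Agent.Lefpen.H721.OmegaSec Groth.Agent.Krr.H487.KerRank Groth.Agent.Sga67.LocBasis
open Groth.Agent.Sga67.Sec Groth.Agent.CurvesB.OmegaStalkDict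

variable {k : Type u} [Field k] {X : Scheme.{u}} (f : X ⟶ Spec (CommRingCat.of k))

/-- Affine opens with standard smooth ring of functions form a basis. -/
theorem exists_stdSmooth (m : ℕ) [SmoothOfRelativeDimension m f] (x : X) (U : X.Opens)
    (hx : x ∈ U) : ∃ W : X.Opens, IsAffineOpen W ∧ x ∈ W ∧ W ≤ U ∧
      Algebra.IsStandardSmoothOfRelativeDimension m k (SA f W) := by
  obtain ⟨V₀, hV₀, V, hV, hxV, e, hs⟩ :=
    SmoothOfRelativeDimension.exists_isStandardSmoothOfRelativeDimension (n := m) (f := f) x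
  have hT : V₀ = ⊤ := by
    have hsub : Subsingleton ↥(Spec (CommRingCat.of k)) :=
      inferInstanceAs (Subsingleton (PrimeSpectrum k))
    ext y
    exact ⟨fun _ => trivial, fun _ => Subsingleton.elim (f x) y ▸ e hxV⟩
  subst hT
  obtain ⟨g, hgU, hxg⟩ := hV.exists_basicOpen_le ⟨x, hx⟩ hxV
  refine ⟨X.basicOpen g, hV.basicOpen g, hxg, hgU, ?_⟩
  have h1 : RingHom.IsStandardSmoothOfRelativeDimension 0
      (X.presheaf.map (homOfLE (X.basicOpen_le g)).op).hom := by
    let _ := (X.presheaf.map (homOfLE (X.basicOpen_le g)).op).hom.toAlgebra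
    have : IsLocalization.Away g Γ(X, X.basicOpen g) := hV.isLocalization_basicOpen g
    exact RingHom.IsStandardSmoothOfRelativeDimension.algebraMap_isLocalizationAway g
  have h2 : RingHom.IsStandardSmoothOfRelativeDimension 0
      (Scheme.ΓSpecIso (CommRingCat.of k)).inv.hom :=
    RingHom.IsStandardSmoothOfRelativeDimension.equiv
      (Scheme.ΓSpecIso (CommRingCat.of k)).symm.commRingCatIsoToRingEquiv
  have h3 := (h1.comp hs).comp h2
  rw [zero_add, add_zero] at h3
  have h4 : secHom f (X.basicOpen g) =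
      ((X.presheaf.map (homOfLE (X.basicOpen_le g)).op).hom.comp (f.appLE ⊤ V e).hom).comp
        (Scheme.ΓSpecIso (CommRingCat.of k)).inv.hom := by
    have h5 : f.appLE ⊤ V e ≫ X.presheaf.map (homOfLE (X.basicOpen_le g)).op =
        f.appTop ≫ X.presheaf.map (homOfLE (le_top : X.basicOpen g ≤ ⊤)).op := by
      rw [Scheme.Hom.appLE_map]
      rfl
    have h6 : secHom f (X.basicOpen g) = ((Scheme.ΓSpecIso (CommRingCat.of k)).inv ≫ f.appTop ≫
      X.presheaf.map (homOfLE (le_top : X.basicOpen g ≤ ⊤)).op).hom := rfl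
    rw [h6, ← h5]
    rfl
  rw [← h4] at h3
  exact h3

theorem isFinLocFreeOfRank_omega (m : ℕ) [SmoothOfRelativeDimension m f] [IsSeparated f] :
    FlatMod.IsFinLocFreeOfRank m (Omega.sheaf f) := by
  have : Smooth f := SmoothOfRelativeDimension.smooth m f
  refine isFinLocFreeOfRank_of_forall (isFinLocFree_omega f) ?_
  intro x U m' b hx hb
  obtain ⟨W, hW, hxW, hWU, hs⟩ := exists_stdSmooth f m x U hx
  obtain ⟨e, -⟩ := exists_omega_equiv f hW
  have : Nonempty W := ⟨⟨x, hxW⟩⟩
  have hnt : Nontrivial (SA f W) := inferInstanceAs (Nontrivial Γ(X, W))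
  have h1 : Module.rank (SA f W) Ω[SA f W⁄k] = m :=
    Algebra.IsStandardSmoothOfRelativeDimension.rank_kaehlerDifferential m
  have h2 : Module.rank (SA f W) Γ(Omega.sheaf f, W) = m := by
    rw [← e.rank_eq, h1]
  have h3 : Module.rank Γ(X, W) (Sec (Omega.sheaf f) W) = m' := by
    rw [rank_eq_card_basis (hb.basis hWU), Fintype.card_fin]
  have h4 : (m : Cardinal) = m' := h2.symm.trans h3
  exact_mod_cast h4.symm

end Groth.Agent.Vancyc.H691.OmegaRank
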