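import Groth.Agent.Vancyc.H691.RelSec
import Groth.Agent.Vancyc.H691.ConeMain
import Groth.Agent.Dual.H366.ConSec

/-!
# The special fibre of the deformation to the normal cone

`i : Z ⟶ X` a closed immersion over `Spec R`.  `W0 i p` is the fibre at `0` of `W i.ker ⟶ 𝔸¹_R`, `s0 : Z ⟶ W0` the zero
section.  There is a morphism `W0 ⟶ V(conormal i)` over `Z` such that `s0` is the inverse image of the zero section.
-/

set_option autoImplicit false
universe u

open CategoryTheory CategoryTheory.Limits AlgebraicGeometry Opposite TopologicalSpace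
open AlgebraicGeometry.Scheme.AffineZariskiSite AlgebraicGeometry.Scheme

namespace Groth.Agent.Vancyc.H691.SpecFib

open Groth.Agent.CohqB.AlgSys Groth.Agent.CohqB.AlgSym
open Groth.Agent.Vancyc.H120 Groth.Agent.Vancyc.H120.DefSp Groth.Agent.Vancyc.H120.ReesFib
open Groth.Agent.Vancyc.H691.RelSec Groth.Agent.Vancyc.H691.ConeRho Groth.Agent.Vancyc.H691.Cone

noncomputable section

variable {Z X : Scheme.{u}} (i : Z ⟶ X) {R : Type u} [CommRing R] (p : X ⟶ Spec (CommRingCat.of R))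

/-- The point `c` of the affine line. -/
abbrev pt (R : Type u) [CommRing R] (c : R) :
    Spec (CommRingCat.of R) ⟶ Spec (CommRingCat.of (Polynomial R)) :=
  Spec.map (CommRingCat.ofHom (Polynomial.evalRingHom c))

@[reassoc (attr := simp)]
theorem pt_C (c : R) : pt R c ≫ Spec.map (CommRingCat.ofHom (Polynomial.C : R →+* Polynomial R)) =
    𝟙 _ := by
  rw [← Spec.map_comp, ← CommRingCat.ofHom_comp]
  have : (Polynomial.evalRingHom c).comp (Polynomial.C : R →+* Polynomial R) = RingHom.id R := by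
    ext r; simp
  rw [this]
  exact Spec.map_id _

instance isClosedImmersion_pt (c : R) : IsClosedImmersion (pt R c) :=
  IsClosedImmersion.spec_of_surjective _ (fun r => ⟨Polynomial.C r, by simp⟩)

/-- The fibre at `0`. -/
abbrev W0 : Scheme.{u} := pullback (tW i.ker p) (pt R 0)

/-- The inclusion of the fibre at `0`. -/
abbrev j0 : W0 i p ⟶ W i.ker := pullback.fst _ _

theorem fn_pt {T : Scheme.{u}} (g : T ⟶ Spec (CommRingCat.of R)) (V : T.Opens) :
    fnOf (g ≫ pt R 0) V Polynomial.X = 0 := by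
  rw [fnOf_comp]
  simp

/-- The zero section of the fibre at `0`. -/
def s0 : Z ⟶ W0 i p :=
  pullback.lift (zeta i.ker i le_rfl (i ≫ p ≫ pt R 0)) (i ≫ p) (by
    rw [zeta_tW]
    · rw [Category.assoc]
    · simp only [Category.assoc, pt_C, Category.comp_id])

@[reassoc]
theorem s0_j0 : s0 i p ≫ j0 i p = zeta i.ker i le_rfl (i ≫ p ≫ pt R 0) := pullback.lift_fst _ _ _

theorem s0_j0_toX : s0 i p ≫ j0 i p ≫ toX i.ker = i := by
  rw [s0_j0_assoc, zeta_toX]

theorem appLE_congr {X Y : Scheme.{u}} {f g : X ⟶ Y} (h : f = g) (U : Y.Opens) (V : X.Opens)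
    (e : V ≤ f ⁻¹ᵁ U) : f.appLE U V e = g.appLE U V (h ▸ e) := by
  subst h
  rfl

theorem s0_appLE (U : X.AffineZariskiSite)
    (h : i ⁻¹ᵁ U.toOpens ≤ (s0 i p ≫ j0 i p) ⁻¹ᵁ (toX i.ker ⁻¹ᵁ U.toOpens))
    (y : Γ(W i.ker, toX i.ker ⁻¹ᵁ U.toOpens)) :
    ((s0 i p ≫ j0 i p).appLE (toX i.ker ⁻¹ᵁ U.toOpens) (i ⁻¹ᵁ U.toOpens) h).hom y =
      (i.app U.toOpens).hom ((sec i.ker U y : LaurentPolynomial Γ(X, U.toOpens)).coeff 0) := by
  rw [appLE_congr (s0_j0 i p)]
  refine (zetaS_appLE i.ker i le_rfl _ U _ y).trans ?_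
  have h1 : fn (i ≫ p ≫ pt R 0) = 0 := by
    rw [fn, ← Category.assoc, fn_pt]
  rw [zetaψ, RingHom.comp_apply, h1, map_zero]
  exact eval_zero_polyMap _ _ _ _

variable [IsClosedImmersion i]

theorem exists_isPullback (hN : Coh.IsQCoh (Omega.conormal i)) :
    ∃ (h : W0 i p ⟶ Z) (_ : IsAffineHom h) (_ : h ≫ i = j0 i p ≫ toX i.ker)
      (_ : s0 i p ≫ h = 𝟙 Z) (ρ : Omega.conormal i ⟶ Oalg h),
      IsPullback (s0 i p) (𝟙 Z) (toV hN h ρ) (zero hN) := by
  have hrs : ∀ V : (W i.ker).Opens, rs (fn (tW i.ker p)) V = fnOf (tW i.ker p) V Polynomial.X :=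
    fun V => map_fnOf (tW i.ker p) le_top Polynomial.X
  have hcoe : ∀ (U : X.AffineZariskiSite) (a : Γ(X, U.toOpens)) (ha : a ∈ idl i.ker U)
      (y : Γ(W i.ker, toX i.ker ⁻¹ᵁ U.toOpens)),
      rs (fn (tW i.ker p)) _ * y = ((toX i.ker).app U.toOpens).hom a ↔
        sec i.ker U y = Rees.u _ a ha := by
    intro U a ha y
    rw [← (sec_bijective i.ker U).1.eq_iff, map_mul, hrs, sec_fn, sec_app, ← Rees.t_mul_u _ a ha]
    exact mul_cancel_left_mem_nonZeroDivisors (Rees.t_mem_nonZeroDivisors _)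
  refine ConeMain.exists_isPullback i (toX i.ker) (fn (tW i.ker p)) (j0 i p) (s0 i p)
    (s0_j0_toX i p) hN ?_ ?_ ?_ ?_ ?_
  · intro U hU y hy
    let U' : X.AffineZariskiSite := ⟨U, hU⟩
    apply (sec_bijective i.ker U').1
    rw [map_zero]
    have h1 := congrArg (sec i.ker U') hy
    rw [map_mul, map_zero, hrs] at h1
    have h2 : Rees.t (idl i.ker U') * sec i.ker U' y = 0 := by
      rw [← sec_fn i.ker p U']
      exact h1
    exact (mul_left_mem_nonZeroDivisors_eq_zero_iff (Rees.t_mem_nonZeroDivisors _)).1 h2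
  · intro U a ha
    let U' : X.AffineZariskiSite := ⟨U.1, U.2⟩
    obtain ⟨y, hy⟩ := (sec_bijective i.ker U').2 (Rees.u (idl i.ker U') a ha)
    exact ⟨y, (hcoe U' a ha y).2 hy⟩
  · have h1 := app_fnOf (tW i.ker p) (j0 i p) ⊤ ⊤ (le_of_eq rfl) Polynomial.X
    rw [← appTop_eq, pullback.condition, fn_pt] at h1
    exact h1
  · intro U y a ha hy
    let U' : X.AffineZariskiSite := ⟨U.1, U.2⟩
    rw [hcoe U' a ha y] at hy
    refine (s0_appLE i p U' _ y).trans ?_
    rw [hy, Rees.coe_u, Rees.coeff_C_mul_T, if_neg (by decide), map_zero]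
  · intro U q hq
    let U' : X.AffineZariskiSite := ⟨U.1, U.2⟩
    have h1 := (s0_appLE i p U' _ q).symm.trans hq
    have h2 : (sec i.ker U' q : LaurentPolynomial Γ(X, U'.toOpens)).coeff 0 ∈ idl i.ker U' := by
      change _ ∈ i.ker.ideal U
      rw [Scheme.Hom.ker_apply]
      exact h1
    have h3 := ReesZero.mem_aug _ _ h2
    let e : Γ(W i.ker, toX i.ker ⁻¹ᵁ U'.toOpens) ≃+* Rees.rees (idl i.ker U') :=
      RingEquiv.ofBijective _ (sec_bijective i.ker U')
    have h4 : e.symm (e q) ∈ (ReesZero.aug (idl i.ker U')).map e.symm :=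
      Ideal.mem_map_of_mem _ h3
    rw [RingEquiv.symm_apply_apply, ReesZero.aug, Ideal.map_span] at h4
    refine Ideal.span_mono ?_ h4
    rintro _ ⟨z, (hz | ⟨a, ha, hz⟩), rfl⟩
    · left
      rw [Set.mem_singleton_iff.1 hz, Set.mem_singleton_iff, hrs]
      apply e.injective
      exact (e.apply_symm_apply _).trans (sec_fn i.ker p U').symm
    · right
      refine ⟨a, ha, (hcoe U' a ha _).2 ?_⟩
      have h5 : z = Rees.u _ a ha := by
        rw [← Rees.t_mul_u _ a ha] at hz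
        exact (mul_cancel_left_mem_nonZeroDivisors (Rees.t_mem_nonZeroDivisors _)).1 hz
      exact (e.apply_symm_apply z).trans h5

end

end Groth.Agent.Vancyc.H691.SpecFib
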